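import Mathlib
import Cfsg.Agent.Lib.PGroups.MaximalClass
import Cfsg.Agent.Lib.PGroups.Omega

/-!
# Auxiliary facts for Harada's sectional rank theorem

`SqIn H M`: every square of `H` lies in the subgroup `M` of `H`, so that `H / M` is an
elementary abelian section.  `Rank2 R`: inside `R` every such section has order at most four.
-/

set_option autoImplicit false

namespace Cfsg.Agent.Lib.HaradaEight

open Subgroup

variable {S : Type*} [Group S]

/-- `H / M` is an elementary abelian `2`-section. -/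
def SqIn (H M : Subgroup S) : Prop := M ≤ H ∧ ∀ x ∈ H, x * x ∈ M

theorem SqIn.inf {H M : Subgroup S} (h : SqIn H M) (K : Subgroup S) : SqIn (H ⊓ K) (M ⊓ K) :=
  ⟨inf_le_inf_right K h.1, fun x hx => ⟨h.2 x hx.1, mul_mem hx.2 hx.2⟩⟩

theorem SqIn.map {T : Type*} [Group T] {H M : Subgroup S} (h : SqIn H M) (f : S →* T) :
    SqIn (H.map f) (M.map f) := by
  refine ⟨map_mono h.1, ?_⟩
  rintro _ ⟨x, hx, rfl⟩
  exact ⟨x * x, h.2 x hx, map_mul f x x⟩

theorem SqIn.conj_mul_mem {H M : Subgroup S} (h : SqIn H M) {x y : S} (hx : x ∈ H) (hy : y ∈ H) :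
    x⁻¹ * y⁻¹ * x * y ∈ M := by
  have : x⁻¹ * y⁻¹ * x * y = (x⁻¹ * x⁻¹) * ((x * y⁻¹) * (x * y⁻¹)) * (y * y) := by group
  rw [this]
  exact mul_mem (mul_mem (h.2 _ (inv_mem hx)) (h.2 _ (mul_mem hx (inv_mem hy)))) (h.2 _ hy)

/-- Order of a subgroup along a homomorphism. -/
theorem card_map_mul {T : Type*} [Group T] [Finite S] (f : S →* T) (H : Subgroup S) :
    Nat.card H = Nat.card (H.map f) * Nat.card ↥(H ⊓ f.ker) := by
  have h1 := Subgroup.card_mul_index (f.comp H.subtype).ker
  rw [Subgroup.index_ker, MonoidHom.range_comp, Subgroup.range_subtype] at h1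
  rw [← h1, mul_comm]
  congr 1
  refine Nat.card_congr
    { toFun := fun x => ⟨(x.1 : S), x.1.2, x.2⟩
      invFun := fun x => ⟨⟨x.1, x.2.1⟩, x.2.2⟩
      left_inv := fun x => rfl
      right_inv := fun x => rfl }

/-- Sectional rank at most two inside `R`. -/
def Rank2 (R : Subgroup S) : Prop :=
  ∀ H M : Subgroup S, H ≤ R → SqIn H M → Nat.card H ≤ 4 * Nat.card M

/-- A list of representatives bounds the order. -/
theorem card_le_of_cover [Finite S] {H M : Subgroup S} {n : ℕ} (r : Fin n → S)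
    (h : ∀ x ∈ H, ∃ i, (r i)⁻¹ * x ∈ M) : Nat.card H ≤ n * Nat.card M := by
  classical
  choose i hi using h
  let f : H → Fin n × M := fun x => (i x x.2, ⟨(r (i x x.2))⁻¹ * x, hi x x.2⟩)
  have hf : Function.Injective f := by
    intro x y hxy
    obtain ⟨h1, h2⟩ := Prod.ext_iff.1 hxy
    have h3 : (r (i x x.2))⁻¹ * (x : S) = (r (i y y.2))⁻¹ * y := congrArg Subtype.val h2
    have h4 : i x x.2 = i y y.2 := h1
    rw [h4] at h3
    exact Subtype.ext (mul_left_cancel h3)
  have := Nat.card_le_card_of_injective f hf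
  rwa [Nat.card_prod, Nat.card_fin] at this

theorem pow_mem_or [Finite S] {M : Subgroup S} {d : S} (hd : d * d ∈ M) {x : S}
    (hx : x ∈ zpowers d) : x ∈ M ∨ d⁻¹ * x ∈ M := by
  obtain ⟨k, rfl⟩ := mem_zpowers_iff.1 hx
  rcases Int.even_or_odd k with ⟨j, rfl⟩ | ⟨j, rfl⟩
  · exact Or.inl (by
      rw [show d ^ (j + j) = (d * d) ^ j by
        rw [← two_mul, zpow_mul, zpow_two]]
      exact zpow_mem hd j)
  · exact Or.inr (by
      rw [show d⁻¹ * d ^ (2 * j + 1) = (d * d) ^ j by
        rw [add_comm, zpow_add, zpow_one, zpow_mul, zpow_two, inv_mul_cancel_left]]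
      exact zpow_mem hd j)

/-- A subgroup inside a cyclic one has sectional rank one. -/
theorem card_le_two_of_cyclic [Finite S] {H M Q : Subgroup S} [IsCyclic Q] (hHQ : H ≤ Q)
    (h : SqIn H M) : Nat.card H ≤ 2 * Nat.card M := by
  have : IsCyclic H := isCyclic_of_injective (Subgroup.inclusion hHQ) (inclusion_injective hHQ)
  obtain ⟨⟨d, hd⟩, hgen⟩ := IsCyclic.exists_generator (α := H)
  refine card_le_of_cover ![1, d] fun x hx => ?_
  have hx' : x ∈ zpowers d := by
    obtain ⟨k, hk⟩ := mem_zpowers_iff.1 (hgen ⟨x, hx⟩)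
    exact ⟨k, by simpa using congrArg Subtype.val hk⟩
  rcases pow_mem_or (h.2 d hd) hx' with h1 | h1
  · exact ⟨0, by simpa using h1⟩
  · exact ⟨1, by simpa using h1⟩

/-- A subgroup with a cyclic subgroup of index at most two has sectional rank at most two. -/
theorem rank2_of_cyclic_index_two [Finite S] {R Q : Subgroup S} [IsCyclic Q]
    (hmul : ∀ x ∈ R, ∀ y ∈ R, x ∉ Q → y ∉ Q → x * y ∈ Q) : Rank2 R := by
  intro H M hHR h
  by_cases hle : H ≤ Q
  · have := card_le_two_of_cyclic hle h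
    omega
  obtain ⟨t, ht, htQ⟩ := SetLike.not_le_iff_exists.1 hle
  have hD : IsCyclic ↥(H ⊓ Q) := isCyclic_of_injective
    (Subgroup.inclusion (inf_le_right : H ⊓ Q ≤ Q)) (inclusion_injective _)
  obtain ⟨⟨d, hd⟩, hgen⟩ := IsCyclic.exists_generator (α := ↥(H ⊓ Q))
  have hpow : ∀ x ∈ H ⊓ Q, x ∈ M ∨ d⁻¹ * x ∈ M := fun x hx => by
    refine pow_mem_or (h.2 d hd.1) ?_
    obtain ⟨k, hk⟩ := mem_zpowers_iff.1 (hgen ⟨x, hx⟩)
    exact ⟨k, by simpa using congrArg Subtype.val hk⟩
  refine card_le_of_cover ![1, d, t, t * d] fun x hx => ?_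
  by_cases hxQ : x ∈ Q
  · rcases hpow x ⟨hx, hxQ⟩ with h1 | h1
    · exact ⟨0, by simpa using h1⟩
    · exact ⟨1, by simpa using h1⟩
  · have htx : t⁻¹ * x ∈ H ⊓ Q := ⟨H.mul_mem (H.inv_mem ht) hx,
      hmul _ (hHR (inv_mem ht)) _ (hHR hx) (fun h1 => htQ (by simpa using inv_mem h1)) hxQ⟩
    rcases hpow _ htx with h1 | h1
    · exact ⟨2, by simpa using h1⟩
    · exact ⟨3, by simpa [mul_assoc] using h1⟩

/-- In rank two an elementary subgroup of order `> 2` contains every involution centralizing it. -/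
theorem mem_of_commute [Finite S] {R V : Subgroup S} (hR : Rank2 R) (hV : V ≤ R) {c : S}
    (hc : c ∈ R) (hc2 : c * c = 1) (hV2 : ∀ v ∈ V, v * v = 1) (h2 : 2 < Nat.card V)
    (hcomm : ∀ v ∈ V, v * c = c * v) : c ∈ V := by
  by_contra hcV
  have hcc : ∀ {x : S}, x * c ∈ V → x * c = c * x := fun {x} hx => by
    have h1 := hcomm _ hx
    calc x * c = x * c * (c * c) := by rw [hc2, mul_one]
      _ = (x * c * c) * c := by group
      _ = (c * (x * c)) * c := by rw [h1]
      _ = c * x * (c * c) := by group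
      _ = c * x := by rw [hc2, mul_one]
  have hcommx : ∀ {x : S}, x ∈ V ∨ x * c ∈ V → x * c = c * x := fun {x} hx =>
    hx.elim (hcomm x) hcc
  let V' : Subgroup S :=
    { carrier := {x | x ∈ V ∨ x * c ∈ V}
      one_mem' := Or.inl (one_mem V)
      mul_mem' := by
        intro x y hx hy
        have hy' := hcommx hy
        rcases hx with hx | hx <;> rcases hy with hy | hy
        · exact Or.inl (mul_mem hx hy)
        · exact Or.inr (by rw [mul_assoc]; exact mul_mem hx hy)
        · exact Or.inr (by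
            rw [mul_assoc, hy', ← mul_assoc]; exact mul_mem hx hy)
        · refine Or.inl ?_
          have : x * y = x * c * (y * c) := by
            calc x * y = x * (c * c) * y := by rw [hc2, mul_one]
              _ = x * c * (c * y) := by group
              _ = x * c * (y * c) := by rw [hy']
          rw [this]; exact mul_mem hx hy
      inv_mem' := by
        intro x hx
        rcases hx with hx | hx
        · exact Or.inl (inv_mem hx)
        · refine Or.inr ?_
          have h1 : x⁻¹ * c = (x * c)⁻¹ := by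
            rw [hcc hx, mul_inv_rev, inv_eq_of_mul_eq_one_right hc2]
          rw [h1]; exact inv_mem hx }
  have hel : ∀ x ∈ V', x * x = 1 := by
    intro x hx
    rcases hx with hx | hx
    · exact hV2 x hx
    · calc x * x = x * x * (c * c) := by rw [hc2, mul_one]
        _ = x * (x * c) * c := by group
        _ = x * (c * x) * c := by rw [hcc hx]
        _ = (x * c) * (x * c) := by group
        _ = 1 := hV2 _ hx
  have hV'R : V' ≤ R := by
    rintro x (hx | hx)
    · exact hV hx
    · simpa using mul_mem (hV hx) (inv_mem hc)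
  have h8 := hR V' ⊥ hV'R ⟨bot_le, fun x hx => Subgroup.mem_bot.2 (hel x hx)⟩
  rw [Subgroup.card_bot, mul_one] at h8
  have hle : V ≤ V' := fun x hx => Or.inl hx
  have hne : Nat.card V ≠ Nat.card V' := fun he => by
    have h1 := eq_of_le_of_card_ge hle he.ge
    exact hcV (h1 ▸ (Or.inr (by rw [hc2]; exact one_mem V) : c ∈ V'))
  obtain ⟨m, hm⟩ : Nat.card V ∣ Nat.card V' := card_dvd_of_le hle
  have hm0 : 0 < Nat.card V' := Nat.card_pos
  rcases m with _ | _ | m
  · omega
  · omega
  · nlinarith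

/-- Odd powers of a generator of a cyclic `2`-group generate it. -/
theorem mem_zpowers_of_two_pow [Finite S] (hS : IsPGroup 2 S) {q x : S} (hx : x ∈ zpowers q)
    (hsq : x ∉ zpowers (q * q)) : q ∈ zpowers x := by
  obtain ⟨k, rfl⟩ := mem_zpowers_iff.1 hx
  rcases Int.even_or_odd k with ⟨j, rfl⟩ | hk
  · exact absurd ⟨j, by rw [← two_mul, zpow_mul, zpow_two]⟩ hsq
  have : Fact (Nat.Prime 2) := ⟨Nat.prime_two⟩
  obtain ⟨n, hn⟩ := IsPGroup.iff_orderOf.1 hS q
  have hcop : IsCoprime k ((orderOf q : ℕ) : ℤ) := by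
    rw [hn, Nat.cast_pow]
    refine IsCoprime.pow_right ?_
    obtain ⟨j, rfl⟩ := hk
    exact ⟨1, -j, by push_cast; ring⟩
  obtain ⟨a, b, hab⟩ := hcop
  refine ⟨a, ?_⟩
  show (q ^ k) ^ a = q
  rw [← zpow_mul]
  conv_rhs => rw [← zpow_one q, ← hab]
  rw [zpow_add, mul_comm b, zpow_mul q (orderOf q : ℤ) b, zpow_natCast, pow_orderOf_eq_one,
    one_zpow, mul_one, mul_comm k a]

/-- A `2`-group of more than four elements with an involution having centralizer of order at
most four: it has a cyclic subgroup of index two avoiding the involution and containing the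
central involutions. -/
theorem small_centralizer [Finite S] (hS : IsPGroup 2 S) {R : Subgroup S} {t : S} (ht : t ∈ R)
    (ht1 : t ≠ 1) (ht2 : t * t = 1)
    (hC : Nat.card ↥(R ⊓ centralizer ({t} : Set S)) ≤ 4) :
    Rank2 R ∧ (8 ≤ Nat.card R → ∃ Q : Subgroup S, IsCyclic Q ∧ Q ≤ R ∧ t ∉ Q ∧
      (∀ x ∈ R, ∀ y ∈ R, x ∉ Q → y ∉ Q → x * y ∈ Q) ∧
      ∀ c ∈ R, c * c = 1 → (∀ x ∈ R, x * c = c * x) → c ∈ Q) := by
  have : Fact (Nat.Prime 2) := ⟨Nat.prime_two⟩
  have hR : IsPGroup 2 R := hS.to_subgroup R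
  obtain ⟨n, hn⟩ := IsPGroup.iff_card.1 hR
  by_cases h8 : Nat.card R < 8
  · refine ⟨fun H M hH h => ?_, fun h => absurd h (by omega)⟩
    have h1 := Nat.le_of_dvd Nat.card_pos (card_dvd_of_le hH)
    have h2 : 0 < Nat.card M := Nat.card_pos
    have h3 : Nat.card R ≤ 4 := by
      rcases n with _ | _ | _ | n
      · omega
      · omega
      · omega
      · exfalso
        have : 2 ^ 3 ≤ 2 ^ (n + 1 + 1 + 1) := Nat.pow_le_pow_right (by omega) (by omega)
        omega
    nlinarith
  push Not at h8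
  have hn3 : 3 ≤ n := by
    by_contra h
    have : 2 ^ n ≤ 2 ^ 2 := Nat.pow_le_pow_right (by omega) (by omega)
    omega
  -- work inside `R`
  let t' : R := ⟨t, ht⟩
  let A : Subgroup R := centralizer ({t'} : Set R)
  have hAmap : A.map R.subtype = R ⊓ centralizer ({t} : Set S) := by
    ext x
    simp only [mem_map, mem_inf, mem_centralizer_singleton_iff, A, coe_subtype]
    constructor
    · rintro ⟨y, hy, rfl⟩
      exact ⟨y.2, congrArg Subtype.val hy⟩
    · rintro ⟨hx, hxt⟩
      exact ⟨⟨x, hx⟩, Subtype.ext hxt, rfl⟩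
  have hA4 : Nat.card A ≤ 4 := by
    rw [Nat.card_congr (A.equivMapOfInjective _ R.subtype_injective).toEquiv, hAmap]
    exact hC
  have hnontr : Nontrivial R := ⟨⟨t', 1, fun h => ht1 (congrArg Subtype.val h)⟩⟩
  have hnc : t' ∉ center R := by
    intro hc
    have htop : A = ⊤ := eq_top_iff.2 fun x _ =>
      mem_centralizer_singleton_iff.2 (mem_center_iff.1 hc x)
    rw [htop, card_top] at hA4
    omega
  obtain ⟨z, hz, hz1⟩ := (center R).bot_or_exists_ne_one.resolve_left
    (hR.bot_lt_center).ne'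
  have htA : t' ∈ A := mem_centralizer_singleton_iff.2 rfl
  have hzA : z ∈ A := mem_centralizer_singleton_iff.2 (mem_center_iff.1 hz t').symm
  have hA : Nat.card A = 4 := by
    obtain ⟨k, hk⟩ := IsPGroup.iff_card.1 (hR.to_subgroup A)
    have h3 : 3 ≤ Nat.card A := by
      have := Nat.card_le_card_of_injective (![⟨1, one_mem _⟩, ⟨t', htA⟩, ⟨z, hzA⟩] : Fin 3 → A) ?_
      · rwa [Nat.card_fin] at this
      intro i j hij
      have h' := congrArg Subtype.val hij
      fin_cases i <;> fin_cases j <;> simp at h' ⊢ <;>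
        first
          | exact absurd h'.symm (fun h => ht1 (congrArg Subtype.val h))
          | exact absurd h' (fun h => ht1 (congrArg Subtype.val h))
          | exact absurd h' hz1
          | exact absurd h'.symm hz1
          | exact absurd (h' ▸ hz) hnc
          | exact absurd (h'.symm ▸ hz) hnc
    rcases k with _ | _ | _ | k
    · omega
    · omega
    · omega
    · exfalso
      have : 2 ^ 3 ≤ 2 ^ (k + 1 + 1 + 1) := Nat.pow_le_pow_right (by omega) (by omega)
      omega
  have hAcomm : IsMulCommutative A := IsPGroup.isMulCommutative_of_card_eq_prime_sq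
    (p := 2) (by rw [hA]; rfl)
  have hAself : centralizer (A : Set R) = A := by
    refine le_antisymm (fun x hx => mem_centralizer_singleton_iff.2 ?_) fun x hx => ?_
    · exact (mem_centralizer_iff.1 hx t' htA).symm
    · exact mem_centralizer_iff.2 fun y hy => congrArg Subtype.val
        (hAcomm.1.comm ⟨y, hy⟩ ⟨x, hx⟩)
  have hnil := hR.isNilpotent
  have hcl := Cfsg.Agent.Lib.PGroups.class_of_self_centralizing_sq (p := 2) n A hn
    (by rw [hA]; rfl) hAself
  obtain ⟨Q', hQc, hQi⟩ := Cfsg.Agent.Lib.PGroups.exists_cyclic_index_two n hn3 hn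
    ((Cfsg.Agent.Lib.PGroups.index_commutator_of_class (p := 2) n (by omega) hn hcl).trans
      (by norm_num))
  have hmul : ∀ x y : R, x ∉ Q' → y ∉ Q' → x * y ∈ Q' := fun x y hx hy =>
    (mul_mem_iff_of_index_two hQi).2 (iff_of_false hx hy)
  let Q : Subgroup S := Q'.map R.subtype
  have hQc' : IsCyclic Q := (Q'.equivMapOfInjective _ R.subtype_injective).isCyclic.1 hQc
  have hmem : ∀ x (hx : x ∈ R), x ∈ Q ↔ (⟨x, hx⟩ : R) ∈ Q' := fun x hx =>
    ⟨fun ⟨y, hy, he⟩ => by rwa [show (⟨x, hx⟩ : R) = y from Subtype.ext he.symm],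
      fun h => ⟨_, h, rfl⟩⟩
  have hmulS : ∀ x ∈ R, ∀ y ∈ R, x ∉ Q → y ∉ Q → x * y ∈ Q := fun x hx y hy hxQ hyQ =>
    (hmem _ (mul_mem hx hy)).2
      (hmul ⟨x, hx⟩ ⟨y, hy⟩ (fun h => hxQ ((hmem x hx).2 h)) (fun h => hyQ ((hmem y hy).2 h)))
  refine ⟨rank2_of_cyclic_index_two (Q := Q) hmulS, fun _ =>
    ⟨Q, hQc', map_subtype_le Q', ?_, hmulS, fun c hc hc2 hcc => ?_⟩⟩
  · intro htQ
    rw [hmem t ht] at htQ
    -- the involution of a cyclic normal subgroup is central
    refine hnc (mem_center_iff.2 fun g => ?_)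
    have hQn : Q'.Normal := normal_of_index_eq_two hQi
    have h1 : g * t' * g⁻¹ ∈ Q' := hQn.conj_mem t' htQ g
    have ht2' : t' * t' = 1 := Subtype.ext ht2
    have h2 : (g * t' * g⁻¹) * (g * t' * g⁻¹) = 1 := by
      rw [show g * t' * g⁻¹ * (g * t' * g⁻¹) = g * (t' * t') * g⁻¹ by group, ht2']
      group
    have := unique_involution hQc htQ h1 (fun h => ht1 (congrArg Subtype.val h)) ht2'
      (fun h => ht1 (congrArg Subtype.val (by simpa using h : t' = 1))) h2
    calc g * t' = g * t' * g⁻¹ * g := by group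
      _ = t' * g := by rw [← this]
  · by_contra hcQ
    rw [hmem c hc] at hcQ
    -- then `R` is abelian
    refine hnc (mem_center_iff.2 fun g => ?_)
    have hcom : ∀ x y : R, x * y = y * x := by
      have key : ∀ x : R, ∃ q ∈ Q', ∃ i : ℕ, x = q * (⟨c, hc⟩ : R) ^ i := fun x => by
        by_cases hx : x ∈ Q'
        · exact ⟨x, hx, 0, by simp⟩
        · refine ⟨x * ⟨c, hc⟩, hmul _ _ hx hcQ, 1, ?_⟩
          rw [pow_one, mul_assoc, show (⟨c, hc⟩ : R) * ⟨c, hc⟩ = 1 from Subtype.ext hc2, mul_one]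
      intro x y
      obtain ⟨q₁, hq₁, i, rfl⟩ := key x
      obtain ⟨q₂, hq₂, j, rfl⟩ := key y
      have hz' : ∀ g : R, Commute g (⟨c, hc⟩ : R) := fun g => Subtype.ext (hcc g g.2)
      have hq : Commute q₁ q₂ := by
        have : IsMulCommutative Q' := inferInstance
        exact congrArg Subtype.val (this.1.comm ⟨q₁, hq₁⟩ ⟨q₂, hq₂⟩)
      exact (Commute.mul_left (Commute.mul_right hq ((hz' q₁).pow_right j))
        (Commute.mul_right ((hz' q₂).pow_right i).symm
          (((Commute.refl _).pow_left i).pow_right j))).eq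
    exact hcom g t'
where
  unique_involution {R : Subgroup S} {Q : Subgroup R} (hQ : IsCyclic Q) {a b : R}
      (ha : a ∈ Q) (hb : b ∈ Q) (ha1 : a ≠ 1) (ha2 : a * a = 1) (hb1 : b ≠ 1) (hb2 : b * b = 1) :
      a = b := by
    classical
    have := hQ
    have : Fintype Q := Fintype.ofFinite _
    have hle : (Finset.univ.filter fun x : Q => x ^ 2 = 1).card ≤ 2 :=
      IsCyclic.card_pow_eq_one_le (by norm_num)
    by_contra hab
    have h3 : ({1, ⟨a, ha⟩, ⟨b, hb⟩} : Finset Q) ⊆ Finset.univ.filter fun x : Q => x ^ 2 = 1 := by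
      intro x hx
      simp only [Finset.mem_insert, Finset.mem_singleton] at hx
      rw [Finset.mem_filter]
      refine ⟨Finset.mem_univ _, ?_⟩
      rcases hx with rfl | rfl | rfl
      · simp
      · rw [sq]; exact Subtype.ext ha2
      · rw [sq]; exact Subtype.ext hb2
    have h4 := Finset.card_le_card h3
    rw [Finset.card_insert_of_notMem, Finset.card_insert_of_notMem, Finset.card_singleton] at h4
    · omega
    · simp only [Finset.mem_singleton]
      exact fun h => hab (congrArg Subtype.val h)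
    · simp only [Finset.mem_insert, Finset.mem_singleton]
      rintro (h | h)
      · exact ha1 (congrArg Subtype.val h).symm
      · exact hb1 (congrArg Subtype.val h).symm

/-- A nontrivial step in a normal series has an element of square inside, central modulo the
lower term. -/
theorem exists_central_step [Finite S] (hS : IsPGroup 2 S) {K L : Subgroup S} [hKn : K.Normal]
    [hLn : L.Normal] (hne : ¬ L ≤ K) :
    ∃ x ∈ L, x ∉ K ∧ x * x ∈ K ∧ ∀ s : S, x⁻¹ * s⁻¹ * x * s ∈ K := by
  have : Fact (Nat.Prime 2) := ⟨Nat.prime_two⟩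
  let π := QuotientGroup.mk' K
  have hsurj : Function.Surjective π := QuotientGroup.mk'_surjective K
  have hQ : IsPGroup 2 (S ⧸ K) := hS.to_quotient K
  have hLn' : (L.map π).Normal := hLn.map π hsurj
  have hne' : L.map π ≠ ⊥ := fun h => hne (by
    rw [Subgroup.map_eq_bot_iff, QuotientGroup.ker_mk'] at h
    exact h)
  obtain ⟨y, hy, hy1⟩ := (L.map π ⊓ center (S ⧸ K)).bot_or_exists_ne_one.resolve_left
    (Cfsg.Agent.Lib.PGroups.normal_inf_center_ne_bot hQ (L.map π) hne')
  obtain ⟨n, hn⟩ := IsPGroup.iff_orderOf.1 hQ y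
  rcases n with _ | n
  · exact absurd (orderOf_eq_one_iff.1 (by simpa using hn)) hy1
  let y' := y ^ 2 ^ n
  have hy' : y' ≠ 1 := fun h => by
    have := orderOf_dvd_of_pow_eq_one h
    rw [hn, Nat.pow_dvd_pow_iff_le_right (by norm_num)] at this
    omega
  have hy'2 : y' * y' = 1 := by
    show y ^ 2 ^ n * y ^ 2 ^ n = 1
    rw [← pow_add, ← two_mul, ← pow_succ', ← hn, pow_orderOf_eq_one]
  obtain ⟨hL', hc'⟩ : y' ∈ L.map π ∧ y' ∈ center (S ⧸ K) :=
    ⟨pow_mem hy.1 _, pow_mem hy.2 _⟩
  obtain ⟨x, hx, hxy⟩ := hL'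
  have hxπ : π x = y' := hxy
  refine ⟨x, hx, fun h => hy' ?_, ?_, fun s => ?_⟩
  · rw [← hxπ, QuotientGroup.mk'_apply, QuotientGroup.eq_one_iff]
    exact h
  · rw [← QuotientGroup.eq_one_iff, ← QuotientGroup.mk'_apply, map_mul]
    show π x * π x = 1
    rw [hxπ, hy'2]
  · rw [← QuotientGroup.eq_one_iff, ← QuotientGroup.mk'_apply]
    show π (x⁻¹ * s⁻¹ * x * s) = 1
    simp only [map_mul, map_inv, hxπ]
    rw [mul_assoc, ← mem_center_iff.1 hc' (π s)]
    group

/-- A normal subgroup of order `2 ^ (n + 1)` contains a normal subgroup of every smaller order. -/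
theorem exists_normal_card [Finite S] (hS : IsPGroup 2 S) {E : Subgroup S} [hEn : E.Normal] :
    ∀ m : ℕ, 2 ^ m ≤ Nat.card E → ∃ F : Subgroup S, F.Normal ∧ F ≤ E ∧ Nat.card F = 2 ^ m := by
  have : Fact (Nat.Prime 2) := ⟨Nat.prime_two⟩
  intro m
  induction m with
  | zero => exact fun _ => ⟨⊥, inferInstance, bot_le, by simp⟩
  | succ m ih =>
    intro h
    obtain ⟨F, hFn, hFE, hF⟩ := ih (le_trans (Nat.pow_le_pow_right (by norm_num) (by omega)) h)
    have hne : ¬ E ≤ F := fun hle => by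
      have h1 := Nat.le_of_dvd Nat.card_pos (card_dvd_of_le hle)
      rw [hF] at h1
      have : 2 ^ m < 2 ^ (m + 1) := Nat.pow_lt_pow_succ (by norm_num)
      omega
    obtain ⟨x, hxE, hxF, hx2, hxc⟩ := exists_central_step hS (K := F) (L := E) hne
    let π := QuotientGroup.mk' F
    have hx2' : π x * π x = 1 := by
      rw [← map_mul, QuotientGroup.mk'_apply, QuotientGroup.eq_one_iff]; exact hx2
    have hcen : ∀ g, g * π x * g⁻¹ = π x := fun g => by
      obtain ⟨s, rfl⟩ := QuotientGroup.mk'_surjective F g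
      have h1 : π (x⁻¹ * s⁻¹ * x * s) = 1 := (QuotientGroup.eq_one_iff _).2 (hxc s)
      simp only [map_mul, map_inv, mul_assoc, inv_mul_eq_one, inv_mul_eq_iff_eq_mul] at h1
      rw [mul_one] at h1
      rw [← h1, mul_inv_cancel_right]
    have hn : (zpowers (π x)).Normal := ⟨fun y hy g => by
      obtain ⟨k, rfl⟩ := mem_zpowers_iff.1 hy
      rw [← conj_zpow, hcen g]
      exact zpow_mem (mem_zpowers _) k⟩
    refine ⟨(zpowers (π x)).comap π, hn.comap π, fun y hy => ?_, ?_⟩
    · obtain ⟨k, hk⟩ := mem_zpowers_iff.1 (mem_comap.1 hy)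
      have h1 : (x ^ k)⁻¹ * y ∈ F := by
        rw [← QuotientGroup.eq_one_iff, ← QuotientGroup.mk'_apply, map_mul, map_inv, map_zpow]
        show (π x ^ k)⁻¹ * π y = 1
        rw [hk, inv_mul_cancel]
      simpa using mul_mem (zpow_mem hxE k) (hFE h1)
    · have h1 := card_map_mul π ((zpowers (π x)).comap π)
      rw [map_comap_eq_self_of_surjective (QuotientGroup.mk'_surjective F),
        inf_eq_right.2 (ker_le_comap _ _), QuotientGroup.ker_mk', hF, Nat.card_zpowers] at h1
      rw [h1, orderOf_eq_prime (p := 2) (by rw [sq]; exact hx2') (fun h => hxF ?_), pow_succ']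
      rwa [← QuotientGroup.eq_one_iff]

end Cfsg.Agent.Lib.HaradaEight
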