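import Mathlib
import Cfsg.Agent.Lib.HaradaEight.Basic

/-!
# An elementary self-centralizing subgroup of order eight and a normal elementary subgroup
-/

set_option autoImplicit false

namespace Cfsg.Agent.Lib.HaradaEight

open Subgroup

variable {S : Type*} [Group S]

/-- A self-centralizing elementary abelian subgroup of order eight of a `2`-group. -/
structure Eight (A : Subgroup S) : Prop where
  pgroup : IsPGroup 2 S
  comm : ∀ a ∈ A, ∀ b ∈ A, a * b = b * a
  sq : ∀ a ∈ A, a * a = 1
  card : Nat.card A = 8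
  self : ∀ x : S, (∀ a ∈ A, x * a = a * x) → x ∈ A

/-- A normal elementary abelian subgroup. -/
structure ElemNormal (E : Subgroup S) : Prop where
  normal : E.Normal
  comm : ∀ a ∈ E, ∀ b ∈ E, a * b = b * a
  sq : ∀ a ∈ E, a * a = 1

/-- The commutator of an involution with an element. -/
def delta (a x : S) : S := a * x⁻¹ * a * x

/-- The commutator of an element of `E` with an element. -/
def psi (s e : S) : S := e * (s⁻¹ * e * s)

theorem natCard_le_two {α : Type*} (f : α → S) (hf : Function.Injective f) {u v : S}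
    (h : ∀ x, f x = u ∨ f x = v) : Nat.card α ≤ 2 := by
  classical
  refine le_trans (Nat.card_le_card_of_injective (fun x => decide (f x = u)) ?_) (by simp)
  intro x y hxy
  simp only [decide_eq_decide] at hxy
  apply hf
  rcases h x with hx | hx <;> rcases h y with hy | hy
  · rw [hx, hy]
  · rw [hx, hxy.1 hx]
  · rw [hxy.2 hy, hy]
  · rw [hx, hy]

theorem inv_eq_self {a : S} (h : a * a = 1) : a⁻¹ = a := inv_eq_of_mul_eq_one_right h

theorem delta_eq_one_iff {a x : S} (ha : a * a = 1) : delta a x = 1 ↔ a * x = x * a := by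
  unfold delta
  constructor
  · intro h
    calc a * x = x * (x⁻¹ * a * x) := by group
      _ = x * (a⁻¹ * (a * x⁻¹ * a * x)) := by group
      _ = x * a := by rw [h, mul_one, inv_eq_self ha]
  · intro h
    rw [mul_assoc (a * x⁻¹), h, mul_assoc a, inv_mul_cancel_left, ha]

namespace ElemNormal

variable {E : Subgroup S} (hE : ElemNormal E)
include hE

theorem conj (s : S) {e : S} (he : e ∈ E) : s⁻¹ * e * s ∈ E := by
  simpa using hE.normal.conj_mem e he s⁻¹

theorem le_centralizer : E ≤ centralizer (E : Set S) :=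
  fun x hx => mem_centralizer_iff.2 fun y hy => hE.comm y hy x hx

theorem psi_mem (s : S) {e : S} (he : e ∈ E) : psi s e ∈ E := mul_mem he (hE.conj s he)

theorem psi_mul (s : S) {e f : S} (he : e ∈ E) (hf : f ∈ E) :
    psi s (e * f) = psi s e * psi s f := by
  unfold psi
  rw [show s⁻¹ * (e * f) * s = (s⁻¹ * e * s) * (s⁻¹ * f * s) by group]
  have h : Commute f (s⁻¹ * e * s) := hE.comm f hf _ (hE.conj s he)
  rw [Commute.mul_mul_mul_comm h]

theorem psi_eq_one_iff {s e : S} (he : e ∈ E) : psi s e = 1 ↔ s * e = e * s := by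
  unfold psi
  rw [mul_eq_one_iff_eq_inv, ← inv_eq_iff_eq_inv]
  rw [inv_eq_self (hE.sq e he)]
  constructor
  · intro h
    calc s * e = s * (s⁻¹ * e * s) := by rw [← h]
      _ = e * s := by group
  · intro h
    rw [mul_assoc, ← h, inv_mul_cancel_left]

theorem mem_centralizer_of_psi {s : S} (h : ∀ e ∈ E, psi s e = 1) :
    s ∈ centralizer (E : Set S) :=
  mem_centralizer_iff.2 fun e he => ((hE.psi_eq_one_iff he).1 (h e he)).symm

theorem psi_mul_centralizer (s : S) {k e : S} (hk : k ∈ centralizer (E : Set S)) (he : e ∈ E) :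
    psi (s * k) e = psi s e := by
  unfold psi
  congr 1
  calc (s * k)⁻¹ * e * (s * k) = k⁻¹ * ((s⁻¹ * e * s) * k) := by group
    _ = k⁻¹ * (k * (s⁻¹ * e * s)) := by rw [mem_centralizer_iff.1 hk _ (hE.conj s he)]
    _ = s⁻¹ * e * s := by group

/-- If the commutators with `h` are fixed by `h`, then `h * h` centralizes `E`. -/
theorem sq_mem_centralizer {h : S} (hfix : ∀ e ∈ E, h * psi h e = psi h e * h) :
    h * h ∈ centralizer (E : Set S) := by
  refine mem_centralizer_iff.2 fun e he => ?_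
  have h1 : h⁻¹ * e * h = e * psi h e := by
    unfold psi
    rw [← mul_assoc e e, hE.sq e he, one_mul]
  have h2 : h⁻¹ * psi h e * h = psi h e := by
    rw [mul_assoc, ← hfix e he, inv_mul_cancel_left]
  have h3 : (h * h)⁻¹ * e * (h * h) = e := by
    calc (h * h)⁻¹ * e * (h * h) = h⁻¹ * (h⁻¹ * e * h) * h := by group
      _ = h⁻¹ * (e * psi h e) * h := by rw [h1]
      _ = (h⁻¹ * e * h) * (h⁻¹ * psi h e * h) := by group
      _ = e * psi h e * psi h e := by rw [h1, h2]
      _ = e := by rw [mul_assoc, hE.sq _ (hE.psi_mem h he), mul_one]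
  calc e * (h * h) = (h * h) * ((h * h)⁻¹ * e * (h * h)) := by group
    _ = (h * h) * e := by rw [h3]

variable {a : S}

theorem delta_self_mem (ha : a * a = 1) {d : S} (hd : d ∈ E) : delta a d ∈ E := by
  unfold delta
  refine mul_mem ?_ hd
  have := hE.conj a (inv_mem hd)
  rwa [inv_eq_self ha] at this

theorem delta_eq_psi (ha : a * a = 1) {d : S} (hd : d ∈ E) : delta a d = psi a d := by
  unfold delta psi
  rw [inv_eq_self (hE.sq d hd), inv_eq_self ha]
  have := hE.conj a hd
  rw [inv_eq_self ha] at this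
  exact hE.comm _ this d hd

theorem delta_commute (ha : a * a = 1) {x : S} (hx : delta a x ∈ E) :
    a * delta a x = delta a x * a := by
  have h1 : a * delta a x * a = delta a x := by
    calc a * delta a x * a = (a * a) * x⁻¹ * a * x * a := by unfold delta; group
      _ = x⁻¹ * a⁻¹ * x * a⁻¹ := by rw [ha, one_mul, inv_eq_self ha]
      _ = (delta a x)⁻¹ := by unfold delta; group
      _ = delta a x := inv_eq_self (hE.sq _ hx)
  calc a * delta a x = a * delta a x * a * a := by rw [mul_assoc (a * delta a x), ha, mul_one]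
    _ = delta a x * a := by rw [h1]

theorem delta_mul (ha : a * a = 1) {x d : S} (hx : delta a x ∈ E) (hd : d ∈ E) :
    delta a (x * d) = delta a x * delta a d := by
  have h2 : a * d⁻¹ * a ∈ E := by
    have := hE.conj a (inv_mem hd)
    rwa [inv_eq_self ha] at this
  calc delta a (x * d) = a * d⁻¹ * (1 * x⁻¹) * a * x * d := by unfold delta; group
    _ = a * d⁻¹ * ((a * a) * x⁻¹) * a * x * d := by rw [ha]
    _ = (a * d⁻¹ * a) * delta a x * d := by unfold delta; group
    _ = delta a x * (a * d⁻¹ * a) * d := by rw [hE.comm _ h2 _ hx]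
    _ = delta a x * delta a d := by unfold delta; group

end ElemNormal

/-- The fixed subgroup of `a` on `E`. -/
def fixE (E : Subgroup S) (a : S) : Subgroup S := E ⊓ centralizer ({a} : Set S)

theorem mem_fixE {E : Subgroup S} {a e : S} : e ∈ fixE E a ↔ e ∈ E ∧ e * a = a * e := by
  simp [fixE, mem_centralizer_singleton_iff]

/-- The commutator map with an involution on `E`. -/
noncomputable def deltaHom {E : Subgroup S} (hE : ElemNormal E) {a : S} (ha : a * a = 1) :
    E →* S :=
  MonoidHom.mk' (fun e => delta a e)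
    (fun e f => hE.delta_mul ha (hE.delta_self_mem ha e.2) f.2)

/-- The image of the commutator map with an involution on `E`. -/
noncomputable def imgE {E : Subgroup S} (hE : ElemNormal E) {a : S} (ha : a * a = 1) :
    Subgroup S := (deltaHom hE ha).range

section

variable {E : Subgroup S} (hE : ElemNormal E) {a : S} (ha : a * a = 1)

theorem mem_imgE {x : S} : x ∈ imgE hE ha ↔ ∃ d ∈ E, delta a d = x :=
  ⟨fun ⟨d, hd⟩ => ⟨d, d.2, hd⟩, fun ⟨d, hd, h⟩ => ⟨⟨d, hd⟩, h⟩⟩

theorem imgE_le_fixE : imgE hE ha ≤ fixE E a := fun x hx => by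
  obtain ⟨d, hd, rfl⟩ := (mem_imgE hE ha).1 hx
  exact mem_fixE.2 ⟨hE.delta_self_mem ha hd,
    (hE.delta_commute ha (hE.delta_self_mem ha hd)).symm⟩

theorem card_imgE_mul_fixE [Finite S] :
    Nat.card (imgE hE ha) * Nat.card (fixE E a) = Nat.card E := by
  have h := Subgroup.card_mul_index (deltaHom hE ha).ker
  rw [Subgroup.index_ker] at h
  rw [← h, mul_comm]
  congr 1
  refine Nat.card_congr
    { toFun := fun x => ⟨⟨x.1, x.2.1⟩, (delta_eq_one_iff ha).2 ((mem_fixE.1 x.2).2.symm)⟩
      invFun := fun x => ⟨(x.1 : S), mem_fixE.2 ⟨x.1.2, ((delta_eq_one_iff ha).1 x.2).symm⟩⟩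
      left_inv := fun x => rfl
      right_inv := fun x => rfl }

/-- An element whose commutator with `a` is a commutator from `E` can be moved into `C(a)`. -/
theorem exists_adjust {x : S} (hx : delta a x ∈ imgE hE ha) :
    ∃ d ∈ E, a * (x * d) = (x * d) * a := by
  have hxE : delta a x ∈ E := (mem_fixE.1 (imgE_le_fixE hE ha hx)).1
  obtain ⟨d, hd, hdx⟩ := (mem_imgE hE ha).1 hx
  exact ⟨d, hd, (delta_eq_one_iff ha).1 (by rw [hE.delta_mul ha hxE hd, hdx, hE.sq _ hxE])⟩

end

namespace Eight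

variable {A E : Subgroup S} (h : Eight A) (hE : ElemNormal E)
include h

theorem center_mem {z : S} (hz : z ∈ center S) : z ∈ A :=
  h.self z fun a _ => (mem_center_iff.1 hz a).symm

include hE

theorem exists_z [Finite S] (hne : E ≠ ⊥) : ∃ z ∈ E ⊓ A, z ≠ 1 ∧ z ∈ center S := by
  have : Fact (Nat.Prime 2) := ⟨Nat.prime_two⟩
  have := hE.normal
  obtain ⟨z, hz, hz1⟩ := (E ⊓ center S).bot_or_exists_ne_one.resolve_left
    (Cfsg.Agent.Lib.PGroups.normal_inf_center_ne_bot h.pgroup E hne)
  exact ⟨z, ⟨hz.1, h.center_mem hz.2⟩, hz1, hz.2⟩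

omit hE

theorem card_inter_cases [Finite S] :
    Nat.card ↥(E ⊓ A) = 1 ∨ Nat.card ↥(E ⊓ A) = 2 ∨ Nat.card ↥(E ⊓ A) = 4 ∨
      Nat.card ↥(E ⊓ A) = 8 := by
  have h8 : Nat.card ↥(E ⊓ A) ∣ 2 ^ 3 := by
    have := card_dvd_of_le (inf_le_right : E ⊓ A ≤ A)
    rwa [h.card] at this
  obtain ⟨k, hk, he⟩ := (Nat.dvd_prime_pow Nat.prime_two).1 h8
  rw [he]
  interval_cases k <;> simp

/-- A subgroup containing more than four elements of `A` is centralizing enough. -/
theorem mem_of_five [Finite S] {x : S} (L : Finset S) (hL : 5 ≤ L.card)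
    (hLA : ∀ l ∈ L, l ∈ A ∧ x * l = l * x) : x ∈ A := by
  classical
  refine h.self x fun a ha => ?_
  let D : Subgroup S := A ⊓ centralizer ({x} : Set S)
  have h5 : 5 ≤ Nat.card D := by
    refine le_trans hL ?_
    have := Nat.card_le_card_of_injective (fun l : L => (⟨l.1, (hLA l l.2).1,
      mem_centralizer_singleton_iff.2 (hLA l l.2).2.symm⟩ : D))
      (fun l m hlm => Subtype.ext (congrArg (fun d : D => (d : S)) hlm))
    simpa using this
  have hd : Nat.card D ∣ 2 ^ 3 := by
    have := card_dvd_of_le (inf_le_left : D ≤ A)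
    rwa [h.card] at this
  obtain ⟨k, hk, he⟩ := (Nat.dvd_prime_pow Nat.prime_two).1 hd
  have hD : D = A := eq_of_le_of_card_ge inf_le_left (by
    rw [h.card, he]
    interval_cases k <;> simp_all)
  exact ((mem_centralizer_singleton_iff.1 ((hD.symm ▸ ha : a ∈ D)).2)).symm

/-- Case `|E ∩ A| = 2`. -/
theorem pair [Finite S] (hI : Nat.card ↥(E ⊓ A) = 2) {z : S} (hz : z ∈ E ⊓ A) (hz1 : z ≠ 1)
    (hzc : z ∈ center S) {a : S} (ha : a ∈ A) (haE : a ∉ E) :
    ∃ b ∈ A, b ∉ E ∧ (∀ x : S, x * a = a * x → x * b = b * x → x ∈ A) ∧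
      ∀ y ∈ E, y * a = a * y → y * b = b * y → y = 1 ∨ y = z := by
  classical
  have htwo : ∀ y ∈ E ⊓ A, y = 1 ∨ y = z := by
    intro y hy
    by_contra hcon
    push Not at hcon
    have h3 := Nat.card_le_card_of_injective
      (![⟨1, one_mem _⟩, ⟨z, hz⟩, ⟨y, hy⟩] : Fin 3 → ↥(E ⊓ A)) (by
        intro i j hij
        have h' := congrArg Subtype.val hij
        fin_cases i <;> fin_cases j <;> simp at h' ⊢ <;>
          first
            | exact absurd h' hcon.1
            | exact absurd h'.symm hcon.1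
            | exact absurd h' hcon.2
            | exact absurd h'.symm hcon.2
            | exact absurd h' hz1
            | exact absurd h'.symm hz1)
    rw [Nat.card_fin] at h3
    omega
  have hza : z * a ∉ E := fun hh => haE (by simpa using E.mul_mem (E.inv_mem hz.1) hh)
  obtain ⟨b, hb, hb1, hb2, hb3, hb4⟩ : ∃ b ∈ A, b ≠ 1 ∧ b ≠ z ∧ b ≠ a ∧ b ≠ z * a := by
    by_contra hcon
    push Not at hcon
    have := Nat.card_le_card_of_surjective (![⟨1, one_mem _⟩, ⟨z, hz.2⟩, ⟨a, ha⟩,
      ⟨z * a, mul_mem hz.2 ha⟩] : Fin 4 → A) (by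
        rintro ⟨b, hb⟩
        by_cases e1 : b = 1
        · exact ⟨0, by simp [e1]⟩
        by_cases e2 : b = z
        · exact ⟨1, by simp [e2]⟩
        by_cases e3 : b = a
        · exact ⟨2, by simp [e3]⟩
        exact ⟨3, by simp [hcon b hb e1 e2 e3]⟩)
    rw [h.card, Nat.card_fin] at this
    omega
  have hbE : b ∉ E := fun hh => (htwo b ⟨hh, hb⟩).elim hb1 hb2
  have hself : ∀ x : S, x * a = a * x → x * b = b * x → x ∈ A := by
    intro x hxa hxb
    refine h.mem_of_five {1, z, a, z * a, b} ?_ ?_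
    · have n1 : a ≠ 1 := fun hh => haE (hh ▸ one_mem E)
      have n2 : a ≠ z := fun hh => haE (hh ▸ hz.1)
      have n3 : z * a ≠ 1 := fun hh => hza (hh ▸ one_mem E)
      have n4 : z * a ≠ z := fun hh => n1 (by simpa using hh)
      have n5 : z * a ≠ a := fun hh => hz1 (by simpa using hh)
      rw [Finset.card_insert_of_notMem (by simp [Ne.symm hz1, Ne.symm n1, Ne.symm n3, Ne.symm hb1]),
        Finset.card_insert_of_notMem (by simp [Ne.symm n2, Ne.symm n4, Ne.symm hb2]),
        Finset.card_insert_of_notMem (by simp [Ne.symm n5, Ne.symm hb3]),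
        Finset.card_insert_of_notMem (by simp [Ne.symm hb4]), Finset.card_singleton]
    · have hxz : x * z = z * x := mem_center_iff.1 hzc x
      intro l hl
      simp only [Finset.mem_insert, Finset.mem_singleton] at hl
      rcases hl with rfl | rfl | rfl | rfl | rfl
      · exact ⟨one_mem _, by simp⟩
      · exact ⟨hz.2, hxz⟩
      · exact ⟨ha, hxa⟩
      · exact ⟨mul_mem hz.2 ha, by rw [← mul_assoc, hxz, mul_assoc, hxa, mul_assoc]⟩
      · exact ⟨hb, hxb⟩
  exact ⟨b, hb, hbE, hself, fun y hy hya hyb => htwo y ⟨hy, hself y hya hyb⟩⟩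

/-- Case `|E ∩ A| = 4`. -/
theorem quad [Finite S] (hI : Nat.card ↥(E ⊓ A) = 4) {a : S} (ha : a ∈ A) (haE : a ∉ E) :
    (∀ x : S, x * a = a * x → (∀ y ∈ E ⊓ A, x * y = y * x) → x ∈ A) ∧
      ∀ b ∈ A, b ∈ E ∨ a * b ∈ E := by
  classical
  constructor
  · intro x hxa hx
    have := Fintype.ofFinite ↥(E ⊓ A)
    refine h.mem_of_five (insert a (Finset.univ.image fun y : ↥(E ⊓ A) => (y : S))) ?_ ?_
    · rw [Finset.card_insert_of_notMem, Finset.card_image_of_injective _ Subtype.val_injective,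
        Finset.card_univ, ← Nat.card_eq_fintype_card, hI]
      simp only [Finset.mem_image, Finset.mem_univ, true_and, not_exists]
      exact fun y hy => haE (hy ▸ y.2.1)
    · intro l hl
      simp only [Finset.mem_insert, Finset.mem_image, Finset.mem_univ, true_and] at hl
      rcases hl with rfl | ⟨y, rfl⟩
      · exact ⟨ha, hxa⟩
      · exact ⟨y.2.2, hx y y.2⟩
  · intro b hb
    have hidx : ((E ⊓ A).subgroupOf A).index = 2 := by
      have h1 := Subgroup.card_mul_index ((E ⊓ A).subgroupOf A)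
      rw [Nat.card_congr (subgroupOfEquivOfLe inf_le_right).toEquiv, hI, h.card] at h1
      omega
    by_cases hbE : b ∈ E
    · exact Or.inl hbE
    · have := (mul_mem_iff_of_index_two hidx (a := (⟨a, ha⟩ : A)) (b := ⟨b, hb⟩)).2
        (iff_of_false (fun hh => haE hh.1) (fun hh => hbE hh.1))
      exact Or.inr this.1

include hE

/-- An involution of `A` outside `E` fixes exactly four elements of `E`. -/
theorem card_fixE [Finite S] (hne : E ≠ ⊥) (hE8 : 8 ≤ Nat.card E)
    (hI : Nat.card ↥(E ⊓ A) ≤ 4) {a : S} (ha : a ∈ A) (haE : a ∉ E) :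
    Nat.card (fixE E a) = 4 := by
  obtain ⟨z, hz, hz1, hzc⟩ := h.exists_z hE hne
  rcases h.card_inter_cases (E := E) with hc | hc | hc | hc
  · have : E ⊓ A = ⊥ := eq_bot_of_card_eq _ hc
    exact absurd (Subgroup.mem_bot.1 (this ▸ hz)) hz1
  · obtain ⟨b, hb, hbE, -, hyz⟩ := h.pair hc hz hz1 hzc ha haE
    have hb2 := h.sq b hb
    let f : ↥(fixE E a) →* S := (deltaHom hE hb2).comp
      (Subgroup.inclusion (inf_le_left : fixE E a ≤ E))
    have hf := Subgroup.card_mul_index f.ker
    rw [Subgroup.index_ker] at hf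
    have hk : Nat.card f.ker ≤ 2 := by
      have : ∀ x : f.ker, ((x : fixE E a) : S) = 1 ∨ ((x : fixE E a) : S) = z := fun x =>
        hyz _ (mem_fixE.1 x.1.2).1 (mem_fixE.1 x.1.2).2
          ((delta_eq_one_iff hb2).1 x.2).symm
      exact natCard_le_two (fun x : f.ker => ((x : fixE E a) : S))
        (fun x y hxy => Subtype.ext (Subtype.ext hxy)) this
    have hr : Nat.card f.range ≤ 2 := by
      have : ∀ x : f.range, (x : S) = 1 ∨ (x : S) = z := by
        rintro ⟨_, e, rfl⟩
        obtain ⟨heE, hea⟩ := mem_fixE.1 e.2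
        have h1 := hE.delta_self_mem hb2 heE
        refine hyz _ h1 ?_ (hE.delta_commute hb2 h1).symm
        show delta b (e : S) * a = a * delta b (e : S)
        have hba : Commute a b := h.comm a ha b hb
        have hae : Commute a (e : S) := hea.symm
        exact (((hba.mul_right hae.inv_right).mul_right hba).mul_right hae).eq.symm
      exact natCard_le_two (fun x : f.range => (x : S)) Subtype.val_injective this
    have hle : Nat.card (fixE E a) ≤ 4 := by
      rw [← hf]; exact le_trans (Nat.mul_le_mul hk hr) (by norm_num)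
    have h1 := card_imgE_mul_fixE hE (h.sq a ha)
    have h2 := Nat.le_of_dvd Nat.card_pos (card_dvd_of_le (imgE_le_fixE hE (h.sq a ha)))
    have : Fact (Nat.Prime 2) := ⟨Nat.prime_two⟩
    obtain ⟨k, hk'⟩ := IsPGroup.iff_card.1 (h.pgroup.to_subgroup (fixE E a))
    have h3 : 2 ^ k ≤ 2 ^ 2 := by rw [← hk']; exact hle
    have hk2 : k ≤ 2 := (Nat.pow_le_pow_iff_right (by norm_num)).1 h3
    have h4 : Nat.card (imgE hE (h.sq a ha)) * Nat.card (fixE E a) ≤
        Nat.card (fixE E a) * Nat.card (fixE E a) := Nat.mul_le_mul_right _ h2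
    rw [h1, hk'] at h4
    rw [hk']
    interval_cases k <;> simp at h4 ⊢ <;> omega
  · have : fixE E a = E ⊓ A := by
      refine le_antisymm (fun y hy => ?_) fun y hy => ?_
      · obtain ⟨hyE, hya⟩ := mem_fixE.1 hy
        exact ⟨hyE, (h.quad hc ha haE).1 y hya fun w hw => hE.comm y hyE w hw.1⟩
      · exact mem_fixE.2 ⟨hy.1, h.comm y hy.2 a ha⟩
    rw [this, hc]
  · omega

/-- In the case `|E ∩ A| = 2` the commutators of `b` with `C_E(a)` are `1, z`. -/
theorem z_mem_delta [Finite S] (hne : E ≠ ⊥) (hE8 : 8 ≤ Nat.card E) {a b z : S}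
    (hI : Nat.card ↥(E ⊓ A) = 2) (ha : a ∈ A) (haE : a ∉ E) (hb : b ∈ A) (hbE : b ∉ E)
    (hyz : ∀ y ∈ E, y * a = a * y → y * b = b * y → y = 1 ∨ y = z) :
    ∃ d ∈ fixE E a, delta b d = z := by
  have hK := h.card_fixE hE hne hE8 (by omega) ha haE
  have hb2 := h.sq b hb
  by_contra hcon
  push Not at hcon
  -- everything fixed by `a` would be fixed by `b`
  have hsub : ∀ d ∈ fixE E a, d = 1 ∨ d = z := by
    intro d hd
    obtain ⟨hdE, hda⟩ := mem_fixE.1 hd
    have h1 := hE.delta_self_mem hb2 hdE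
    have hba : Commute a b := h.comm a ha b hb
    have had : Commute a d := hda.symm
    rcases hyz _ h1 (((hba.mul_right had.inv_right).mul_right hba).mul_right had).eq.symm
      (hE.delta_commute hb2 h1).symm with h2 | h2
    · exact hyz d hdE hda ((delta_eq_one_iff hb2).1 h2).symm
    · exact absurd h2 (hcon d hd)
  have hle : Nat.card (fixE E a) ≤ 2 := by
    exact natCard_le_two (fun x : fixE E a => (x : S)) Subtype.val_injective
      fun x => hsub x x.2
  omega

/-- Case `|E ∩ A| = 2`: an element commuting with `a` and `b` modulo `E` lies in `A E`. -/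
theorem adjust_pair [Finite S] (hne : E ≠ ⊥) (hE8 : 8 ≤ Nat.card E) {a b z : S}
    (hI : Nat.card ↥(E ⊓ A) = 2) (ha : a ∈ A) (haE : a ∉ E) (hb : b ∈ A) (hbE : b ∉ E)
    (hyz : ∀ y ∈ E, y * a = a * y → y * b = b * y → y = 1 ∨ y = z)
    (hself : ∀ x : S, x * a = a * x → x * b = b * x → x ∈ A)
    {x : S} (hxa : delta a x ∈ imgE hE (h.sq a ha)) (hxb : delta b x ∈ E) :
    ∃ d ∈ E, x * d ∈ A := by
  have ha2 := h.sq a ha
  have hb2 := h.sq b hb
  obtain ⟨d, hd, hcomm⟩ := exists_adjust hE ha2 hxa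
  have hxd : delta b (x * d) ∈ E := by
    rw [hE.delta_mul hb2 hxb hd]
    exact mul_mem hxb (hE.delta_self_mem hb2 hd)
  have hba : Commute a b := h.comm a ha b hb
  have hax : Commute a (x * d) := hcomm
  rcases hyz _ hxd (((hba.mul_right hax.inv_right).mul_right hba).mul_right hax).eq.symm
      (hE.delta_commute hb2 hxd).symm with h1 | h1
  · exact ⟨d, hd, hself _ hcomm.symm ((delta_eq_one_iff hb2).1 h1).symm⟩
  · obtain ⟨d', hd', hzd⟩ := h.z_mem_delta hE hne hE8 hI ha haE hb hbE hyz
    obtain ⟨hd'E, hd'a⟩ := mem_fixE.1 hd'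
    have h2 : delta b (x * d * d') = 1 := by
      rw [hE.delta_mul hb2 hxd hd'E, h1, hzd]
      exact hE.sq z (hzd ▸ hE.delta_self_mem hb2 hd'E)
    refine ⟨d * d', mul_mem hd hd'E, ?_⟩
    rw [← mul_assoc]
    refine hself _ ?_ ((delta_eq_one_iff hb2).1 h2).symm
    exact ((hax.mul_right (hd'a.symm : Commute a d'))).eq.symm

/-- An element of the centralizer of `E` fixed by `A` modulo `E` lies in `E` as soon as one
commutator is a commutator from `E`. -/
theorem mem_of_fixed [Finite S] (hne : E ≠ ⊥) (hE8 : 8 ≤ Nat.card E)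
    (hI : Nat.card ↥(E ⊓ A) ≤ 4) {a x : S} (ha : a ∈ A) (haE : a ∉ E)
    (hxC : x ∈ centralizer (E : Set S)) (hall : ∀ b ∈ A, b ∉ E → delta b x ∈ E)
    (hxa : delta a x ∈ imgE hE (h.sq a ha)) : x ∈ E := by
  obtain ⟨z, hz, hz1, hzc⟩ := h.exists_z hE hne
  suffices h1 : ∃ d ∈ E, x * d ∈ A by
    obtain ⟨d, hd, hxd⟩ := h1
    by_contra hxE
    have hxdE : x * d ∉ E := fun hh => hxE (by simpa using mul_mem hh (inv_mem hd))
    have hxdC : x * d ∈ centralizer (E : Set S) := mul_mem hxC (hE.le_centralizer hd)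
    have h4 := h.card_fixE hE hne hE8 hI hxd hxdE
    have : fixE E (x * d) = E := le_antisymm inf_le_left fun e he =>
      mem_fixE.2 ⟨he, mem_centralizer_iff.1 hxdC e he⟩
    rw [this] at h4
    omega
  rcases h.card_inter_cases (E := E) with hc | hc | hc | hc
  · have : E ⊓ A = ⊥ := eq_bot_of_card_eq _ hc
    exact absurd (Subgroup.mem_bot.1 (this ▸ hz)) hz1
  · obtain ⟨b, hb, hbE, hself, hyz⟩ := h.pair hc hz hz1 hzc ha haE
    exact h.adjust_pair hE hne hE8 hc ha haE hb hbE hyz hself hxa (hall b hb hbE)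
  · obtain ⟨d, hd, hcomm⟩ := exists_adjust hE (h.sq a ha) hxa
    refine ⟨d, hd, (h.quad hc ha haE).1 _ hcomm.symm fun y hy => ?_⟩
    exact (mem_centralizer_iff.1 (mul_mem hxC (hE.le_centralizer hd)) y hy.1).symm
  · omega

/-- There is an involution of `A` outside `E`. -/
theorem exists_notMem [Finite S] (hI : Nat.card ↥(E ⊓ A) ≤ 4) : ∃ a ∈ A, a ∉ E := by
  by_contra hcon
  push Not at hcon
  have : E ⊓ A = A := inf_eq_right.2 hcon
  rw [this, h.card] at hI
  omega

end Eight

end Cfsg.Agent.Lib.HaradaEight
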