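import Mathlib
import Cfsg.Agent.Lib.HaradaEight.Setup

/-!
# The case of a normal elementary subgroup of order sixteen
-/

set_option autoImplicit false

namespace Cfsg.Agent.Lib.HaradaEight

open Subgroup

variable {S : Type*} [Group S]

namespace ElemNormal

variable {E : Subgroup S} (hE : ElemNormal E)
include hE

/-- Commutators of `E` with `H` lie in `M` when `E ≤ H`. -/
theorem psi_mem_sq {H M : Subgroup S} (hHM : SqIn H M) {e h : S} (he : e ∈ E) (heH : e ∈ H)
    (hh : h ∈ H) : psi h e ∈ M := by
  have h1 := hHM.conj_mul_mem (inv_mem heH) hh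
  rw [inv_inv] at h1
  unfold psi
  rw [inv_eq_self (hE.sq e he)] at h1
  simpa [mul_assoc] using h1

/-- An element fixing a subgroup of index two pointwise. -/
theorem psi_mem_of_fix {W : Subgroup S} (hW : W ≤ E) (hidx : (W.subgroupOf E).index = 2)
    {h : S} (hfix : ∀ w ∈ W, h * w = w * h) {e : S} (he : e ∈ E) : psi h e ∈ W := by
  have hc := hE.conj h he
  by_cases heW : e ∈ W
  · rw [(hE.psi_eq_one_iff he).2 (hfix e heW)]
    exact one_mem W
  have hcW : h⁻¹ * e * h ∉ W := fun hh => heW (by
    have h1 := hfix _ hh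
    have h2 : e = h * (h⁻¹ * e * h) * h⁻¹ := by group
    rw [h1, mul_inv_cancel_right] at h2
    rw [h2]; exact hh)
  exact (mul_mem_iff_of_index_two hidx (a := (⟨e, he⟩ : E)) (b := ⟨_, hc⟩)).2
    (iff_of_false (fun hh => heW hh) (fun hh => hcW hh))

end ElemNormal

/-- Elements of a subgroup with at most three elements. -/
theorem exists_beta [Finite S] {N : Subgroup S} (hN : Nat.card N < 4) (h2 : IsPGroup 2 S) :
    ∃ β ∈ N, ∀ x ∈ N, x = 1 ∨ x = β := by
  have : Fact (Nat.Prime 2) := ⟨Nat.prime_two⟩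
  obtain ⟨k, hk⟩ := IsPGroup.iff_card.1 (h2.to_subgroup N)
  by_cases hb : N = ⊥
  · exact ⟨1, one_mem _, fun x hx => Or.inl (Subgroup.mem_bot.1 (hb ▸ hx))⟩
  obtain ⟨β, hβ, hβ1⟩ := N.bot_or_exists_ne_one.resolve_left hb
  refine ⟨β, hβ, fun x hx => ?_⟩
  by_contra hcon
  push Not at hcon
  have h3 := Nat.card_le_card_of_injective (![⟨1, one_mem _⟩, ⟨β, hβ⟩, ⟨x, hx⟩] : Fin 3 → N) (by
    intro i j hij
    have h' := congrArg Subtype.val hij
    fin_cases i <;> fin_cases j <;> simp at h' ⊢ <;>
      first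
        | exact absurd h' hcon.1
        | exact absurd h'.symm hcon.1
        | exact absurd h' hcon.2
        | exact absurd h'.symm hcon.2
        | exact absurd h' hβ1
        | exact absurd h'.symm hβ1)
  rw [Nat.card_fin] at h3
  rcases k with _ | _ | k
  · omega
  · omega
  · rw [hk] at hN
    have : 2 ^ 2 ≤ 2 ^ (k + 1 + 1) := Nat.pow_le_pow_right (by norm_num) (by omega)
    omega

variable [Finite S] {A E : Subgroup S}

/-- **Harada's theorem with a normal elementary subgroup of order sixteen.** -/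
theorem sixteen (h : Eight A) (hE : ElemNormal E) [E.Normal] (h16 : Nat.card E = 16)
    (H M : Subgroup S) (hHM : SqIn H M) : Nat.card H ≤ 16 * Nat.card M := by
  classical
  have : Fact (Nat.Prime 2) := ⟨Nat.prime_two⟩
  have hne : E ≠ ⊥ := fun he => by rw [he, Subgroup.card_bot] at h16; omega
  have hI : Nat.card ↥(E ⊓ A) ≤ 4 := by
    rcases h.card_inter_cases (E := E) with hc | hc | hc | hc
    · omega
    · omega
    · omega
    · exfalso
      have hAE : A ≤ E := by
        have := eq_of_le_of_card_ge (inf_le_right : E ⊓ A ≤ A) (by rw [hc, h.card])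
        exact this ▸ inf_le_left
      have hle : E ≤ A := fun e he => h.self e fun a ha => hE.comm e he a (hAE ha)
      have := Nat.le_of_dvd Nat.card_pos (card_dvd_of_le hle)
      rw [h16, h.card] at this
      omega
  have hK : ∀ {a : S}, a ∈ A → a ∉ E → Nat.card (fixE E a) = 4 :=
    fun ha haE => h.card_fixE hE hne (by omega) hI ha haE
  have hR : ∀ {a : S} (ha : a ∈ A), a ∉ E → imgE hE (h.sq a ha) = fixE E a := fun {a} ha haE =>
    eq_of_le_of_card_ge (imgE_le_fixE hE _) (by
      have h1 := card_imgE_mul_fixE hE (h.sq a ha)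
      rw [hK ha haE, h16] at h1
      rw [hK ha haE]
      omega)
  obtain ⟨z, hz, hz1, hzc⟩ := h.exists_z hE hne
  obtain ⟨a₀, ha₀, ha₀E⟩ := h.exists_notMem hE hI
  have hmem : ∀ {a x : S}, a * a = 1 → (∀ s : S, x⁻¹ * s⁻¹ * x * s ∈ E) → delta a x ∈ E := by
    intro a x ha hxc
    have h1 := inv_mem (hxc a)
    have h2 : (x⁻¹ * a⁻¹ * x * a)⁻¹ = delta a x := by
      unfold delta
      rw [show (x⁻¹ * a⁻¹ * x * a)⁻¹ = a⁻¹ * x⁻¹ * a * x by group, inv_eq_self ha]
    rwa [h2] at h1
  have himg : ∀ {a x : S} (ha : a ∈ A), a ∉ E → delta a x ∈ E →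
      delta a x ∈ imgE hE (h.sq a ha) := fun {a x} ha haE hx => by
    rw [hR ha haE]
    exact mem_fixE.2 ⟨hx, (hE.delta_commute (h.sq a ha) hx).symm⟩
  -- `E` is self-centralizing
  have hC : centralizer (E : Set S) = E := by
    refine le_antisymm ?_ hE.le_centralizer
    by_contra hle
    obtain ⟨x, hxC, hxE, -, hxc⟩ := exists_central_step h.pgroup hle
    exact hxE (h.mem_of_fixed hE hne (by omega) hI ha₀ ha₀E hxC
      (fun b hb _ => hmem (h.sq b hb) hxc) (himg ha₀ ha₀E (hmem (h.sq a₀ ha₀) hxc)))
  -- the quotient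
  let π := QuotientGroup.mk' E
  have hπ : π.ker = E := QuotientGroup.ker_mk' E
  have hπ1 : ∀ {x : S}, π x = 1 ↔ x ∈ E := fun {x} => QuotientGroup.eq_one_iff x
  have hQ : IsPGroup 2 (S ⧸ E) := h.pgroup.to_quotient E
  obtain ⟨c, -, hcE, hc2, hcc⟩ := exists_central_step h.pgroup (K := E) (L := ⊤)
    (fun hle => ha₀E (hle (mem_top a₀)))
  have hcen : ∀ g, g * π c = π c * g := fun g => by
    obtain ⟨s, rfl⟩ := QuotientGroup.mk'_surjective E g
    rw [← map_mul, ← map_mul]
    refine QuotientGroup.eq.2 ?_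
    have := inv_mem (hcc s)
    simpa [mul_assoc] using inv_mem this
  have hcπ : π c * π c = 1 := by rw [← map_mul, hπ1]; exact hc2
  -- its commutators with `E` have four values
  have hbig : ∀ β : S, ∃ e ∈ E, psi c e ≠ 1 ∧ psi c e ≠ β := by
    intro β
    by_contra hcon
    push Not at hcon
    have hval : ∀ e ∈ E, psi c e = 1 ∨ psi c e = β := fun e he => by
      by_cases h1 : psi c e = 1
      · exact Or.inl h1
      · exact Or.inr (hcon e he h1)
    rcases h.card_inter_cases (E := E) with hc' | hc' | hc' | hc'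
    · have : E ⊓ A = ⊥ := eq_bot_of_card_eq _ hc'
      exact hz1 (Subgroup.mem_bot.1 (this ▸ hz))
    · obtain ⟨b, hb, hbE, hself, hyz⟩ := h.pair hc' hz hz1 hzc ha₀ ha₀E
      obtain ⟨d, hd, hcd⟩ := h.adjust_pair hE hne (by omega) hc' ha₀ ha₀E hb hbE hyz hself
        (himg ha₀ ha₀E (hmem (h.sq a₀ ha₀) hcc)) (hmem (h.sq b hb) hcc)
      have hcdE : c * d ∉ E := fun hh => hcE (by simpa using mul_mem hh (inv_mem hd))
      have h4 := hK hcd hcdE
      rw [← hR hcd hcdE] at h4
      have := natCard_le_two (fun x : imgE hE (h.sq _ hcd) => (x : S)) Subtype.val_injective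
        (u := 1) (v := β) fun x => by
          obtain ⟨e, he, hex⟩ := (mem_imgE hE (h.sq _ hcd)).1 x.2
          rw [← hex, hE.delta_eq_psi (h.sq _ hcd) he,
            hE.psi_mul_centralizer c (hE.le_centralizer hd) he]
          exact hval e he
      omega
    · by_cases hca : π c = π a₀
      · have h4 := hK ha₀ ha₀E
        rw [← hR ha₀ ha₀E] at h4
        have := natCard_le_two (fun x : imgE hE (h.sq a₀ ha₀) => (x : S)) Subtype.val_injective
          (u := 1) (v := β) fun x => by
            obtain ⟨e, he, hex⟩ := (mem_imgE hE (h.sq a₀ ha₀)).1 x.2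
            have hk : c⁻¹ * a₀ ∈ E := QuotientGroup.eq.1 hca
            rw [← hex, hE.delta_eq_psi (h.sq a₀ ha₀) he, show a₀ = c * (c⁻¹ * a₀) by group,
              hE.psi_mul_centralizer c (hE.le_centralizer hk) he]
            exact hval e he
        omega
      · obtain ⟨d, hd, hcomm⟩ := exists_adjust hE (h.sq a₀ ha₀)
          (himg ha₀ ha₀E (hmem (h.sq a₀ ha₀) hcc))
        have hnot : ¬ ∀ y ∈ E ⊓ A, c * d * y = y * (c * d) := fun hall => by
          have hcd := (h.quad hc' ha₀ ha₀E).1 _ hcomm.symm hall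
          rcases (h.quad hc' ha₀ ha₀E).2 _ hcd with h1 | h1
          · exact hcE (by simpa using mul_mem h1 (inv_mem hd))
          · refine hca (QuotientGroup.eq.2 ?_).symm
            have h2 := mul_mem h1 (inv_mem hd)
            rw [inv_eq_self (h.sq a₀ ha₀)]
            simpa [mul_assoc] using h2
        push Not at hnot
        obtain ⟨u, hu, huc⟩ := hnot
        have huR : u ∈ imgE hE (h.sq a₀ ha₀) := by
          rw [hR ha₀ ha₀E]
          exact mem_fixE.2 ⟨hu.1, h.comm u hu.2 a₀ ha₀⟩
        obtain ⟨e, he, heu⟩ := (mem_imgE hE (h.sq a₀ ha₀)).1 huR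
        have hψ : ∀ {f : S}, f ∈ E → psi (c * d) f = psi c f := fun hf =>
          hE.psi_mul_centralizer c (hE.le_centralizer hd) hf
        have hae : a₀⁻¹ * e * a₀ ∈ E := hE.conj a₀ he
        have h1 : psi (c * d) u = psi (c * d) e * psi (c * d) (a₀⁻¹ * e * a₀) := by
          rw [← heu, hE.delta_eq_psi (h.sq a₀ ha₀) he]
          exact hE.psi_mul _ he hae
        have h2 : psi (c * d) (a₀⁻¹ * e * a₀) = a₀⁻¹ * psi (c * d) e * a₀ := by
          unfold psi
          have hcm : Commute a₀ (c * d) := hcomm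
          have e1 : (c * d)⁻¹ * a₀⁻¹ = a₀⁻¹ * (c * d)⁻¹ := hcm.inv_inv.eq.symm
          calc a₀⁻¹ * e * a₀ * ((c * d)⁻¹ * (a₀⁻¹ * e * a₀) * (c * d))
              = a₀⁻¹ * e * a₀ * (((c * d)⁻¹ * a₀⁻¹) * e * (a₀ * (c * d))) := by group
            _ = a₀⁻¹ * e * a₀ * ((a₀⁻¹ * (c * d)⁻¹) * e * ((c * d) * a₀)) := by rw [e1, hcm.eq]
            _ = a₀⁻¹ * (e * ((c * d)⁻¹ * e * (c * d))) * a₀ := by group
        have hu1 : psi (c * d) u ≠ 1 := fun hh => huc ((hE.psi_eq_one_iff hu.1).1 hh)
        have huβ : psi (c * d) u = β :=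
          (hψ hu.1 ▸ hval u hu.1 : psi (c * d) u = 1 ∨ psi (c * d) u = β).resolve_left hu1
        have hfix : a₀⁻¹ * β * a₀ = β := by
          rw [← huβ]
          have := hψ hu.1
          unfold psi
          have hcm : Commute a₀ (c * d) := hcomm
          have hua : Commute a₀ u := h.comm a₀ ha₀ u hu.2
          have := (hua.mul_right ((hcm.inv_right.mul_right hua).mul_right hcm)).eq
          rw [mul_assoc, ← this, inv_mul_cancel_left]
        rw [h2] at h1
        rcases hval e he with h3 | h3
        · rw [hψ he, h3] at h1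
          exact hu1 (by rw [h1]; group)
        · rw [hψ he, h3, hfix] at h1
          refine hu1 (h1.trans ?_)
          exact h3 ▸ hE.sq _ (hE.psi_mem c he)
    · omega
  -- a small centralizer in the quotient
  obtain ⟨t, htA, htE, ht⟩ : ∃ t ∈ A, t ∉ E ∧
      Nat.card ↥((⊤ : Subgroup (S ⧸ E)) ⊓ centralizer ({π t} : Set (S ⧸ E))) ≤ 4 := by
    have hδ : ∀ {a x : S}, a * a = 1 → π x * π a = π a * π x → delta a x ∈ E := by
      intro a x ha hx
      rw [← hπ1]
      unfold delta
      have : π a * π a = 1 := by rw [← map_mul, ha, map_one]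
      simp only [map_mul, map_inv]
      calc π a * (π x)⁻¹ * π a * π x = π a * (π x)⁻¹ * (π a * π x) := by group
        _ = π a * (π x)⁻¹ * (π x * π a) := by rw [hx]
        _ = 1 := by rw [mul_assoc, inv_mul_cancel_left, this]
    rcases h.card_inter_cases (E := E) with hc' | hc' | hc' | hc'
    · have : E ⊓ A = ⊥ := eq_bot_of_card_eq _ hc'
      exact absurd (Subgroup.mem_bot.1 (this ▸ hz)) hz1
    · obtain ⟨b₁, hb₁, hb₁E, hself₁, hyz₁⟩ := h.pair hc' hz hz1 hzc ha₀ ha₀E
      obtain ⟨d, hd, hcd⟩ := h.adjust_pair hE hne (by omega) hc' ha₀ ha₀E hb₁ hb₁E hyz₁ hself₁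
        (himg ha₀ ha₀E (hmem (h.sq a₀ ha₀) hcc)) (hmem (h.sq b₁ hb₁) hcc)
      have hcdE : c * d ∉ E := fun hh => hcE (by simpa using mul_mem hh (inv_mem hd))
      obtain ⟨b, hb, hbE, hself, hyz⟩ := h.pair hc' hz hz1 hzc hcd hcdE
      refine ⟨b, hb, hbE, ?_⟩
      have hle : (⊤ : Subgroup (S ⧸ E)) ⊓ centralizer ({π b} : Set (S ⧸ E)) ≤ A.map π := by
        intro g hg
        obtain ⟨x, rfl⟩ := QuotientGroup.mk'_surjective E g
        have hxb : delta b x ∈ E := hδ (h.sq b hb) (mem_centralizer_singleton_iff.1 hg.2)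
        have hπd : π (c * d) = π c := by rw [map_mul, (hπ1).2 hd, mul_one]
        have hxc : delta (c * d) x ∈ E := hδ (h.sq _ hcd) (by rw [hπd]; exact hcen _)
        obtain ⟨e, he, hxe⟩ := h.adjust_pair hE hne (by omega) hc' hb hbE hcd hcdE
          (fun y hy h1 h2 => hyz y hy h2 h1) (fun y h1 h2 => hself y h2 h1)
          (himg hb hbE hxb) hxc
        exact ⟨x * e, hxe, by rw [map_mul, hπ1.2 he, mul_one]⟩
      refine le_trans (Nat.le_of_dvd Nat.card_pos (card_dvd_of_le hle)) ?_
      have h1 := card_map_mul π A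
      rw [hπ, inf_comm, hc', h.card] at h1
      omega
    · refine ⟨a₀, ha₀, ha₀E, ?_⟩
      let K := centralizer ({a₀} : Set S)
      have hle : (⊤ : Subgroup (S ⧸ E)) ⊓ centralizer ({π a₀} : Set (S ⧸ E)) ≤ K.map π := by
        intro g hg
        obtain ⟨x, rfl⟩ := QuotientGroup.mk'_surjective E g
        have hxa : delta a₀ x ∈ E := hδ (h.sq a₀ ha₀) (mem_centralizer_singleton_iff.1 hg.2)
        obtain ⟨e, he, hxe⟩ := exists_adjust hE (h.sq a₀ ha₀) (himg ha₀ ha₀E hxa)
        exact ⟨x * e, mem_centralizer_singleton_iff.2 hxe.symm, by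
          rw [map_mul, hπ1.2 he, mul_one]⟩
      refine le_trans (Nat.le_of_dvd Nat.card_pos (card_dvd_of_le hle)) ?_
      have hKE : fixE E a₀ = E ⊓ A := by
        refine (eq_of_le_of_card_ge (fun y hy => ?_) ?_).symm
        · exact mem_fixE.2 ⟨hy.1, h.comm y hy.2 a₀ ha₀⟩
        · rw [hK ha₀ ha₀E, hc']
      have h1 := card_map_mul π K
      rw [hπ, inf_comm] at h1
      have h2 : Nat.card ↥(E ⊓ K) = 4 := hK ha₀ ha₀E
      rw [h2] at h1
      -- `C(a₀)` acts on the four-group `E ∩ A`
      suffices h3 : Nat.card K ≤ 16 by omega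
      obtain ⟨u, hu, hu1, huz⟩ : ∃ u ∈ E ⊓ A, u ≠ 1 ∧ u ≠ z := by
        by_contra hcon
        push Not at hcon
        have := natCard_le_two (fun x : ↥(E ⊓ A) => (x : S)) Subtype.val_injective
          (u := 1) (v := z) fun x => by
            by_cases hx : (x : S) = 1
            · exact Or.inl hx
            · exact Or.inr (hcon _ x.2 hx)
        omega
      have hcases : ∀ x ∈ K, x ∈ A ∨ x⁻¹ * u * x = u * z := by
        intro x hx
        have hxa : x * a₀ = a₀ * x := mem_centralizer_singleton_iff.1 hx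
        have huK : x⁻¹ * u * x ∈ E ⊓ A := by
          rw [← hKE]
          refine mem_fixE.2 ⟨hE.conj x hu.1, ?_⟩
          have hcm : Commute a₀ x := hxa.symm
          have hua : Commute a₀ u := h.comm a₀ ha₀ u hu.2
          exact (((hcm.inv_right).mul_right hua).mul_right hcm).eq.symm
        have hsur : ∀ y ∈ E ⊓ A, y = 1 ∨ y = z ∨ y = u ∨ y = u * z := by
          intro y hy
          by_contra hcon
          push Not at hcon
          have h5 := Nat.card_le_card_of_injective (![⟨1, one_mem _⟩, ⟨z, hz⟩, ⟨u, hu⟩,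
            ⟨u * z, mul_mem hu hz⟩, ⟨y, hy⟩] : Fin 5 → ↥(E ⊓ A)) (by
              intro i j hij
              have h' := congrArg Subtype.val hij
              fin_cases i <;> fin_cases j <;> simp at h' ⊢ <;>
                first
                  | exact absurd h' hz1
                  | exact absurd h'.symm hz1
                  | exact absurd h' hu1
                  | exact absurd h'.symm hu1
                  | exact absurd h' huz
                  | exact absurd h'.symm huz
                  | exact absurd h' hcon.1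
                  | exact absurd h'.symm hcon.1
                  | exact absurd h' hcon.2.1
                  | exact absurd h'.symm hcon.2.1
                  | exact absurd h' hcon.2.2.1
                  | exact absurd h'.symm hcon.2.2.1
                  | exact absurd h' hcon.2.2.2
                  | exact absurd h'.symm hcon.2.2.2
                  | exact absurd ((eq_comm.1 h').trans (by rfl)) (fun hh => huz (by
                      have h9 := inv_eq_self (hE.sq z hz.1)
                      rw [← h9]; exact eq_inv_of_mul_eq_one_left hh))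
                  | exact absurd h' (fun hh => huz (by
                      have h9 := inv_eq_self (hE.sq z hz.1)
                      rw [← h9]; exact eq_inv_of_mul_eq_one_left hh))
                  | exact absurd (mul_eq_left.1 h'.symm) hz1
                  | exact absurd (mul_eq_left.1 h') hz1
                  | exact absurd (mul_eq_right.1 h'.symm) hu1
                  | exact absurd (mul_eq_right.1 h') hu1)
          rw [Nat.card_fin] at h5
          omega
        have hzx : x⁻¹ * z * x = z := by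
          rw [mul_assoc, ← mem_center_iff.1 hzc x, inv_mul_cancel_left]
        rcases hsur _ huK with h5 | h5 | h5 | h5
        · exact absurd (show u = 1 by
            have h6 : u = x * (x⁻¹ * u * x) * x⁻¹ := by group
            rw [h5] at h6; simpa using h6) hu1
        · exact absurd (show u = z by
            have h6 : u = x * (x⁻¹ * u * x) * x⁻¹ := by group
            have h7 : z = x * (x⁻¹ * z * x) * x⁻¹ := by group
            rw [h5] at h6; rw [hzx] at h7; exact h6.trans h7.symm) huz
        · refine Or.inl ((h.quad hc' ha₀ ha₀E).1 x hxa fun y hy => ?_)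
          have hxu : x * u = u * x := by
            calc x * u = x * (x⁻¹ * u * x) := by rw [h5]
              _ = u * x := by group
          have hxz : x * z = z * x := mem_center_iff.1 hzc x
          rcases hsur y hy with rfl | rfl | rfl | rfl
          · simp
          · exact hxz
          · exact hxu
          · exact (Commute.mul_right (hxu : Commute x u) (hxz : Commute x z)).eq
        · exact Or.inr h5
      by_cases hKA : ∀ x ∈ K, x ∈ A
      · have := Nat.le_of_dvd Nat.card_pos (card_dvd_of_le (fun x hx => hKA x hx : K ≤ A))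
        rw [h.card] at this
        omega
      push Not at hKA
      obtain ⟨y, hyK, hyA⟩ := hKA
      have h4 := card_le_of_cover (H := K) (M := A) ![1, y] fun x hx => by
        by_cases hxA : x ∈ A
        · exact ⟨0, by simpa using hxA⟩
        refine ⟨1, ?_⟩
        rcases hcases _ (mul_mem (inv_mem hyK) hx) with h5 | h5
        · simpa using h5
        exfalso
        have h6 := (hcases y hyK).resolve_left hyA
        have h7 := (hcases x hx).resolve_left hxA
        have hzy : y * z = z * y := mem_center_iff.1 hzc y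
        have hzx : x⁻¹ * z * x = z := by
          rw [mul_assoc, ← mem_center_iff.1 hzc x, inv_mul_cancel_left]
        have h8 : (y⁻¹ * x)⁻¹ * u * (y⁻¹ * x) = u := by
          have e1 : y * u * y⁻¹ = u * z := by
            calc y * u * y⁻¹ = y * (u * z * z) * y⁻¹ := by
                    rw [mul_assoc u, hE.sq z hz.1, mul_one]
              _ = y * (u * z) * z * y⁻¹ := by group
              _ = y * (y⁻¹ * u * y) * z * y⁻¹ := by rw [h6]
              _ = u * (y * z) * y⁻¹ := by group
              _ = u * z := by rw [hzy]; group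
          calc (y⁻¹ * x)⁻¹ * u * (y⁻¹ * x) = x⁻¹ * (y * u * y⁻¹) * x := by group
            _ = x⁻¹ * (u * z) * x := by rw [e1]
            _ = (x⁻¹ * u * x) * (x⁻¹ * z * x) := by group
            _ = u := by rw [h7, hzx, mul_assoc, hE.sq z hz.1, mul_one]
        rw [h8] at h5
        exact hz1 (mul_eq_left.1 h5.symm)
      rw [h.card] at h4
      omega
    · omega
  have hrank := (small_centralizer hQ (R := ⊤) (mem_top (π t)) (fun h1 => htE (hπ1.1 h1))
    (by rw [← map_mul, h.sq t htA, map_one]) ht).1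
  -- counting
  have hHc := card_map_mul π H
  have hMc := card_map_mul π M
  rw [hπ] at hHc hMc
  set W := H ⊓ E
  set N := M ⊓ E
  have hWM : Nat.card W ≤ 16 := h16 ▸ Nat.le_of_dvd Nat.card_pos (card_dvd_of_le inf_le_right)
  have hNpos : 0 < Nat.card N := Nat.card_pos
  have hr4 := hrank (H.map π) (M.map π) le_top (hHM.map π)
  by_cases hHE : H ≤ E
  · have h1 : W = H := inf_eq_left.2 hHE
    rw [← h1]
    have h2 : 0 < Nat.card M := Nat.card_pos
    calc Nat.card W ≤ 16 := hWM
      _ ≤ 16 * Nat.card M := Nat.le_mul_of_pos_right 16 h2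
  rw [hHc, hMc]
  obtain ⟨g, hg, hgE⟩ := SetLike.not_le_iff_exists.1 hHE
  -- powers of two
  obtain ⟨w, hw, hweq⟩ : ∃ w, w ≤ 4 ∧ Nat.card W = 2 ^ w := by
    obtain ⟨w, hw, he⟩ := (Nat.dvd_prime_pow Nat.prime_two).1
      (show Nat.card W ∣ 2 ^ 4 by
        rw [show (2 : ℕ) ^ 4 = Nat.card E from h16.symm]
        exact card_dvd_of_le inf_le_right)
    exact ⟨w, hw, he⟩
  have hWE : Nat.card W = 16 → ∀ e ∈ E, e ∈ H := fun hc e he => by
    have h1 : W = E := eq_of_le_of_card_ge inf_le_right (by omega)
    exact (h1.symm ▸ he : e ∈ W).1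
  have hN2 : Nat.card W = 16 → 2 ≤ Nat.card N := fun hc => by
    by_contra h1
    push Not at h1
    have hN1 : N = ⊥ := eq_bot_of_card_eq _ (by omega)
    refine hgE (hC ▸ hE.mem_centralizer_of_psi fun e he => ?_)
    exact Subgroup.mem_bot.1 (hN1 ▸ (⟨hE.psi_mem_sq hHM he (hWE hc e he) hg, hE.psi_mem g he⟩ :
      psi g e ∈ N))
  by_cases hr2 : Nat.card (H.map π) ≤ 2 * Nat.card (M.map π)
  · have hw8 : Nat.card W ≤ 8 * Nat.card N := by
      interval_cases w <;> simp only [Nat.reducePow] at hweq
      all_goals first | omega | (have := hN2 hweq; omega)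
    calc Nat.card (H.map π) * Nat.card W ≤ (2 * Nat.card (M.map π)) * (8 * Nat.card N) :=
          Nat.mul_le_mul hr2 hw8
      _ = 16 * (Nat.card (M.map π) * Nat.card N) := by ring
  suffices hw4 : Nat.card W ≤ 4 * Nat.card N by
    calc Nat.card (H.map π) * Nat.card W ≤ (4 * Nat.card (M.map π)) * (4 * Nat.card N) :=
          Nat.mul_le_mul hr4 hw4
      _ = 16 * (Nat.card (M.map π) * Nat.card N) := by ring
  by_contra hw4
  push Not at hw4
  have hMpos : 0 < Nat.card (M.map π) := Nat.card_pos
  have h2H : 2 < Nat.card (H.map π) := by omega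
  -- some commutator bound, and squares
  obtain ⟨hval', hsq⟩ : (∀ x ∈ H, ∃ β : S, ∀ e ∈ E, psi x e = 1 ∨ psi x e = β) ∧
      ∀ x ∈ H, x * x ∈ E := by
    interval_cases w <;> simp only [Nat.reducePow] at hweq
    all_goals first
      | omega
      | skip
    · -- `|W| = 8`
      have hN1 : N = ⊥ := eq_bot_of_card_eq _ (by omega)
      have hfix : ∀ x ∈ H, ∀ v ∈ W, x * v = v * x := fun x hx v hv =>
        (hE.psi_eq_one_iff hv.2).1 (Subgroup.mem_bot.1
          (hN1 ▸ (⟨hE.psi_mem_sq hHM hv.2 hv.1 hx, hE.psi_mem x hv.2⟩ : psi x v ∈ N)))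
      have hidx : (W.subgroupOf E).index = 2 := by
        have h1 := Subgroup.card_mul_index (W.subgroupOf E)
        rw [Nat.card_congr (subgroupOfEquivOfLe inf_le_right).toEquiv, hweq, h16] at h1
        omega
      obtain ⟨e₀, he₀, he₀W⟩ : ∃ e ∈ E, e ∉ W := by
        by_contra hcon
        push Not at hcon
        have := Nat.le_of_dvd Nat.card_pos (card_dvd_of_le (hcon : E ≤ W))
        omega
      have hsq : ∀ x ∈ H, x * x ∈ E := fun x hx => hC ▸ hE.sq_mem_centralizer fun e he =>
        hfix x hx _ (hE.psi_mem_of_fix inf_le_right hidx (hfix x hx) he)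
      refine ⟨fun x hx => ⟨psi x e₀, fun e he => ?_⟩, hsq⟩
      have h1 : ∀ v ∈ W, psi x v = 1 := fun v hv => (hE.psi_eq_one_iff hv.2).2 (hfix x hx v hv)
      by_cases heW : e ∈ W
      · exact Or.inl (h1 e heW)
      · refine Or.inr ?_
        have h2 : e₀ * e ∈ W := (mul_mem_iff_of_index_two hidx (a := (⟨e₀, he₀⟩ : E))
          (b := ⟨e, he⟩)).2 (iff_of_false (fun hh => he₀W hh) (fun hh => heW hh))
        have h3 : psi x (e₀ * (e₀ * e)) = psi x e₀ := by
          rw [hE.psi_mul x he₀ h2.2, h1 _ h2, mul_one]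
        rwa [← mul_assoc, hE.sq e₀ he₀, one_mul] at h3
    · -- `|W| = 16`
      obtain ⟨β, hβN, hβ⟩ := exists_beta (N := N) (by omega) h.pgroup
      have hval : ∀ x ∈ H, ∀ e ∈ E, psi x e = 1 ∨ psi x e = β := fun x hx e he =>
        hβ _ ⟨hE.psi_mem_sq hHM he (hWE hweq e he) hx, hE.psi_mem x he⟩
      refine ⟨fun x hx => ⟨β, hval x hx⟩, fun x hx => hC ▸ hE.sq_mem_centralizer fun e he => ?_⟩
      have hfix : ∀ v ∈ E, (psi x v = 1 ∨ psi x v = β) := hval x hx
      have hβE : β ∈ E := hβN.2
      have hxβ : psi x β = 1 := by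
        rcases hfix β hβE with h1 | h1
        · exact h1
        · unfold psi at h1
          have h2 : x⁻¹ * β * x = 1 := mul_eq_left.1 h1
          have h3 : β = 1 := by
            have : β = x * (x⁻¹ * β * x) * x⁻¹ := by group
            rw [h2] at this; simpa using this
          rw [h3]; simp [psi]
      rcases hfix e he with h1 | h1 <;> rw [h1]
      · simp
      · exact (hE.psi_eq_one_iff hβE).1 hxβ
  -- so the image is elementary and contains the central involution
  have hsq' : ∀ v ∈ H.map π, v * v = 1 := by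
    rintro _ ⟨x, hx, rfl⟩
    rw [← map_mul, hπ1]
    exact hsq x hx
  obtain ⟨x, hx, hxc⟩ := mem_of_commute hrank (le_top : H.map π ≤ ⊤) (mem_top (π c)) hcπ hsq' h2H
    (fun v _ => hcen v)
  obtain ⟨β, hβ⟩ := hval' x hx
  obtain ⟨e, he, he1, he2⟩ := hbig β
  have hk : c⁻¹ * x ∈ E := QuotientGroup.eq.1 hxc.symm
  have h2 := hE.psi_mul_centralizer c (hE.le_centralizer hk) he
  rw [mul_inv_cancel_left] at h2
  rcases hβ e he with h1 | h1 <;> rw [h2] at h1
  · exact he1 h1
  · exact he2 h1

end Cfsg.Agent.Lib.HaradaEight
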