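import Mathlib
import Cfsg.Agent.Lib.HaradaEight.Sixteen

/-!
# The case of a maximal normal elementary subgroup of order eight
-/

set_option autoImplicit false

namespace Cfsg.Agent.Lib.HaradaEight

open Subgroup

variable {S : Type*} [Group S]

theorem mul_self_cancel {a : S} (ha : a * a = 1) (b : S) : a * (a * b) = b := by
  rw [← mul_assoc, ha, one_mul]

/-- An involution of a cyclic subgroup is unique. -/
theorem eq_of_involution [Finite S] {Q : Subgroup S} (hQ : IsCyclic Q) {a b : S} (ha : a ∈ Q)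
    (hb : b ∈ Q) (ha1 : a ≠ 1) (ha2 : a * a = 1) (hb1 : b ≠ 1) (hb2 : b * b = 1) : a = b := by
  classical
  have := hQ
  have : Fintype Q := Fintype.ofFinite _
  have hle : (Finset.univ.filter fun x : Q => x ^ 2 = 1).card ≤ 2 :=
    IsCyclic.card_pow_eq_one_le (by norm_num)
  by_contra hab
  have h3 : ({1, ⟨a, ha⟩, ⟨b, hb⟩} : Finset Q) ⊆ Finset.univ.filter fun x : Q => x ^ 2 = 1 := by
    intro x hx
    simp only [Finset.mem_insert, Finset.mem_singleton] at hx
    rw [Finset.mem_filter]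
    refine ⟨Finset.mem_univ _, ?_⟩
    rcases hx with rfl | rfl | rfl
    · simp
    · rw [sq]; exact Subtype.ext ha2
    · rw [sq]; exact Subtype.ext hb2
  have h4 := Finset.card_le_card h3
  rw [Finset.card_insert_of_notMem, Finset.card_insert_of_notMem, Finset.card_singleton] at h4
  · omega
  · simp only [Finset.mem_singleton]
    exact fun h => hab (congrArg Subtype.val h)
  · simp only [Finset.mem_insert, Finset.mem_singleton]
    rintro (h | h)
    · exact ha1 (congrArg Subtype.val h).symm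
    · exact hb1 (congrArg Subtype.val h).symm

/-- A nontrivial element of a `2`-group has a power of order two. -/
theorem exists_involution_zpowers (h2 : IsPGroup 2 S) {g : S} (hg : g ≠ 1) :
    ∃ y ∈ zpowers g, y ≠ 1 ∧ y * y = 1 := by
  have : Fact (Nat.Prime 2) := ⟨Nat.prime_two⟩
  obtain ⟨n, hn⟩ := IsPGroup.iff_orderOf.1 h2 g
  rcases n with _ | n
  · exact absurd (orderOf_eq_one_iff.1 (by simpa using hn)) hg
  refine ⟨g ^ 2 ^ n, npow_mem_zpowers g _, fun h => ?_, ?_⟩
  · have := orderOf_dvd_of_pow_eq_one h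
    rw [hn, Nat.pow_dvd_pow_iff_le_right (by norm_num)] at this
    omega
  · rw [← pow_add, ← two_mul, ← pow_succ', ← hn, pow_orderOf_eq_one]

/-- A cyclic subgroup containing an involution: every nontrivial subgroup contains it. -/
theorem involution_mem [Finite S] (h2 : IsPGroup 2 S) {Q L : Subgroup S} (hQ : IsCyclic Q)
    {c : S} (hc : c ∈ Q) (hc1 : c ≠ 1) (hc2 : c * c = 1) {g : S} (hg : g ∈ L) (hgQ : g ∈ Q)
    (hg1 : g ≠ 1) : c ∈ L := by
  obtain ⟨y, hy, hy1, hy2⟩ := exists_involution_zpowers h2 hg1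
  rw [← eq_of_involution hQ (zpowers_le.2 hgQ hy) hc hy1 hy2 hc1 hc2]
  exact zpowers_le.2 hg hy

section

variable [Finite S] {E : Subgroup S}

/-- A `2`-group of automorphisms of an elementary group of order eight has elementary sections
of order at most four. -/
theorem rank2_action (h2 : IsPGroup 2 S) (hE : ElemNormal E) [E.Normal] (h8 : Nat.card E = 8)
    {z : S} (hz : z ∈ E) (hz1 : z ≠ 1) (hzc : z ∈ center S) :
    Rank2 (⊤ : Subgroup (S ⧸ centralizer (E : Set S))) := by
  classical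
  have : Fact (Nat.Prime 2) := ⟨Nat.prime_two⟩
  let ρ := QuotientGroup.mk' (centralizer (E : Set S))
  have hzn : (zpowers z).Normal := ⟨fun x hx g => by
    obtain ⟨k, rfl⟩ := mem_zpowers_iff.1 hx
    have h1 : g * z * g⁻¹ = z := by rw [mem_center_iff.1 hzc g, mul_inv_cancel_right]
    rw [← conj_zpow, h1]
    exact zpow_mem (mem_zpowers z) k⟩
  have hcz : Nat.card (zpowers z) = 2 := by
    rw [Nat.card_zpowers]
    exact orderOf_eq_prime (by rw [sq]; exact hE.sq z hz) hz1
  obtain ⟨e₁, he₁, he₁z, -, he₁c⟩ := exists_central_step h2 (K := zpowers z) (L := E) (fun hle => by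
    have := Nat.le_of_dvd Nat.card_pos (card_dvd_of_le hle)
    omega)
  have hz2 : ∀ {x : S}, x ∈ zpowers z → x = 1 ∨ x = z := fun {x} hx => by
    rcases pow_mem_or (M := (⊥ : Subgroup S)) (Subgroup.mem_bot.2 (hE.sq z hz)) hx with h1 | h1
    · exact Or.inl (Subgroup.mem_bot.1 h1)
    · exact Or.inr (inv_mul_eq_one.1 (Subgroup.mem_bot.1 h1)).symm
  have hψ₁ : ∀ s : S, psi s e₁ = 1 ∨ psi s e₁ = z := fun s => hz2 (by
    have h1 := inv_mem (he₁c s)
    unfold psi
    have h2 : (e₁⁻¹ * s⁻¹ * e₁ * s)⁻¹ = s⁻¹ * e₁ * s * e₁ := by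
      conv_rhs => rw [← inv_eq_self (hE.sq e₁ he₁)]
      rw [inv_eq_self (hE.sq e₁ he₁)]
      simp only [mul_inv_rev, inv_inv, mul_assoc]
      rw [inv_eq_self (hE.sq e₁ he₁)]
    rw [h2] at h1
    rw [hE.comm _ he₁ _ (hE.conj s he₁)]
    exact h1)
  -- the subgroup generated by `z` and `e₁`
  let W : Subgroup S :=
    { carrier := {x | x ∈ zpowers z ∨ x * e₁ ∈ zpowers z}
      one_mem' := Or.inl (one_mem _)
      mul_mem' := by
        intro x y hx hy
        have hcm : ∀ {v : S}, v ∈ zpowers z → e₁ * v = v * e₁ := fun {v} hv =>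
          hE.comm e₁ he₁ v (zpowers_le.2 hz hv)
        rcases hx with hx | hx <;> rcases hy with hy | hy
        · exact Or.inl (mul_mem hx hy)
        · exact Or.inr (by rw [mul_assoc]; exact mul_mem hx hy)
        · refine Or.inr ?_
          rw [mul_assoc, ← hcm hy, ← mul_assoc]
          exact mul_mem hx hy
        · refine Or.inl ?_
          have h3 : x * y = (x * e₁) * (y * e₁) := by
            have hye : y * e₁ = e₁ * y := by
              have h4 := hcm hy
              rw [mul_assoc y, hE.sq e₁ he₁, mul_one] at h4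
              calc y * e₁ = e₁ * (e₁ * (y * e₁)) := (mul_self_cancel (hE.sq e₁ he₁) _).symm
                _ = e₁ * y := by rw [h4]
            rw [hye, mul_assoc x, mul_self_cancel (hE.sq e₁ he₁)]
          rw [h3]; exact mul_mem hx hy
      inv_mem' := by
        intro x hx
        rcases hx with hx | hx
        · exact Or.inl (inv_mem hx)
        · refine Or.inr ?_
          have hxE : x ∈ E := by
            have := E.mul_mem (zpowers_le.2 hz hx) (E.inv_mem he₁)
            simpa using this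
          rw [inv_eq_self (hE.sq x hxE)]
          exact hx }
  have hWE : W ≤ E := by
    rintro x (hx | hx)
    · exact zpowers_le.2 hz hx
    · simpa using E.mul_mem (zpowers_le.2 hz hx) (E.inv_mem he₁)
  have hzW : zpowers z ≤ W := fun x hx => Or.inl hx
  have he₁W : e₁ ∈ W := Or.inr (by rw [hE.sq e₁ he₁]; exact one_mem _)
  have hW4 : Nat.card W = 4 := by
    have h1 : Nat.card W ≤ 4 := by
      have := card_le_of_cover (H := W) (M := zpowers z) ![1, e₁] fun x hx => by
        rcases hx with hx | hx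
        · exact ⟨0, by simpa using hx⟩
        · refine ⟨1, ?_⟩
          show e₁⁻¹ * x ∈ zpowers z
          rw [inv_eq_self (hE.sq e₁ he₁), hE.comm e₁ he₁ x
            (by simpa using E.mul_mem (zpowers_le.2 hz hx) (E.inv_mem he₁))]
          exact hx
      rw [hcz] at this
      exact this
    obtain ⟨m, hm⟩ := card_dvd_of_le hzW
    rw [hcz] at hm
    have hne : Nat.card W ≠ 2 := fun he => by
      have := eq_of_le_of_card_ge hzW (by rw [he, hcz])
      exact he₁z (this ▸ he₁W)
    have hpos : 0 < Nat.card W := Nat.card_pos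
    obtain ⟨k, hk⟩ := IsPGroup.iff_card.1 (h2.to_subgroup W)
    rw [hk] at h1 hne hpos hm ⊢
    have hk2 : k ≤ 2 := (Nat.pow_le_pow_iff_right (a := 2) (by norm_num)).1 (by simpa using h1)
    interval_cases k <;> omega
  have hidx : (W.subgroupOf E).index = 2 := by
    have h1 := Subgroup.card_mul_index (W.subgroupOf E)
    rw [Nat.card_congr (subgroupOfEquivOfLe hWE).toEquiv, hW4, h8] at h1
    omega
  obtain ⟨e₂, he₂, he₂W⟩ : ∃ e ∈ E, e ∉ W := by
    by_contra hcon
    push Not at hcon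
    have := Nat.le_of_dvd Nat.card_pos (card_dvd_of_le (hcon : E ≤ W))
    omega
  have hWconj : ∀ (s : S) {w : S}, w ∈ W → s⁻¹ * w * s ∈ W := by
    intro s w hw
    have hzs : ∀ v ∈ zpowers z, s⁻¹ * v * s ∈ zpowers z := fun v hv => by
      simpa using hzn.conj_mem v hv s⁻¹
    rcases hw with hw | hw
    · exact Or.inl (hzs w hw)
    · have h1 : s⁻¹ * w * s = (s⁻¹ * (w * e₁) * s) * (s⁻¹ * e₁ * s) := by
        conv_lhs => rw [show w = w * e₁ * e₁ by rw [mul_assoc, hE.sq e₁ he₁, mul_one]]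
        group
      have h2 : s⁻¹ * e₁ * s = e₁ * psi s e₁ := by
        unfold psi; rw [mul_self_cancel (hE.sq e₁ he₁)]
      rw [h1]
      refine W.mul_mem (Or.inl (hzs _ hw)) ?_
      rw [h2]
      refine W.mul_mem he₁W (hzW ?_)
      rcases hψ₁ s with h3 | h3 <;> rw [h3]
      · exact one_mem _
      · exact mem_zpowers z
  have hψ₂ : ∀ s : S, psi s e₂ ∈ W := fun s =>
    (mul_mem_iff_of_index_two hidx (a := (⟨e₂, he₂⟩ : E)) (b := ⟨_, hE.conj s he₂⟩)).2
      (iff_of_false (fun hh => he₂W hh) (fun hh => he₂W (by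
        have := hWconj s⁻¹ (show s⁻¹ * e₂ * s ∈ W from hh)
        simpa [mul_assoc] using this)))
  have hext : ∀ s t : S, psi s e₁ = psi t e₁ → psi s e₂ = psi t e₂ → ρ s = ρ t := by
    intro s t h1 h2
    have hall : ∀ e ∈ E, s⁻¹ * e * s = t⁻¹ * e * t := by
      have hz' : ∀ r : S, ∀ v ∈ zpowers z, r⁻¹ * v * r = v := fun r v hv => by
        obtain ⟨k, rfl⟩ := mem_zpowers_iff.1 hv
        rw [mul_assoc, ← mem_center_iff.1 (zpow_mem hzc k) r, inv_mul_cancel_left]
      have h1' : s⁻¹ * e₁ * s = t⁻¹ * e₁ * t := mul_left_cancel h1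
      have h2' : s⁻¹ * e₂ * s = t⁻¹ * e₂ * t := mul_left_cancel h2
      have hW' : ∀ w ∈ W, s⁻¹ * w * s = t⁻¹ * w * t := by
        rintro w (hw | hw)
        · rw [hz' s w hw, hz' t w hw]
        · have e3 : ∀ r : S, r⁻¹ * w * r = (r⁻¹ * (w * e₁) * r) * (r⁻¹ * e₁ * r) := fun r => by
            conv_lhs => rw [show w = w * e₁ * e₁ by rw [mul_assoc, hE.sq e₁ he₁, mul_one]]
            group
          rw [e3 s, e3 t, hz' s _ hw, hz' t _ hw, h1']
      intro e he
      by_cases heW : e ∈ W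
      · exact hW' e heW
      · have h3 : e₂ * e ∈ W := (mul_mem_iff_of_index_two hidx (a := (⟨e₂, he₂⟩ : E))
          (b := ⟨e, he⟩)).2 (iff_of_false (fun hh => he₂W hh) (fun hh => heW hh))
        have e4 : ∀ r : S, r⁻¹ * e * r = (r⁻¹ * e₂ * r) * (r⁻¹ * (e₂ * e) * r) := fun r => by
          conv_lhs => rw [show e = e₂ * (e₂ * e) from (mul_self_cancel (hE.sq e₂ he₂) e).symm]
          group
        rw [e4 s, e4 t, h2', hW' _ h3]
    refine QuotientGroup.eq.2 (mem_centralizer_iff.2 fun e he => ?_)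
    have h3 := hall (s * e * s⁻¹) (by simpa using hE.conj s⁻¹ he)
    calc e * (s⁻¹ * t) = (s⁻¹ * (s * e * s⁻¹) * s) * (s⁻¹ * t) := by group
      _ = (t⁻¹ * (s * e * s⁻¹) * t) * (s⁻¹ * t) := by rw [h3]
      _ = t⁻¹ * (s * e * s⁻¹) * t * (s⁻¹ * t) := rfl
      _ = s⁻¹ * t * e := by
        have h4 := hall e he
        have h5 : t * (s⁻¹ * e * s) * t⁻¹ = e := by rw [h4]; group
        have h6 : t⁻¹ * (s * e * s⁻¹) * t = e := by rw [← h3]; group
        rw [h6]
        have h7 := hall (t * e * t⁻¹) (by simpa using hE.conj t⁻¹ he)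
        have h8 : s⁻¹ * (t * e * t⁻¹) * s = e := by rw [h7]; group
        calc e * (s⁻¹ * t) = (s⁻¹ * (t * e * t⁻¹) * s) * (s⁻¹ * t) := by rw [h8]
          _ = s⁻¹ * t * e := by group
  let Φ : S ⧸ (centralizer (E : Set S)) → Bool × W := fun g => (decide (psi g.out e₁ = 1), ⟨psi g.out e₂, hψ₂ _⟩)
  have hout : ∀ g : S ⧸ (centralizer (E : Set S)), ρ g.out = g := fun g => QuotientGroup.out_eq' g
  have hinj : Function.Injective Φ := by
    intro g g' hgg
    obtain ⟨h1, h2⟩ := Prod.ext_iff.1 hgg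
    rw [← hout g, ← hout g']
    refine hext _ _ ?_ (congrArg Subtype.val h2)
    simp only [Φ, decide_eq_decide] at h1
    rcases hψ₁ g.out with a | a <;> rcases hψ₁ g'.out with b | b
    · rw [a, b]
    · rw [a, h1.1 a]
    · rw [h1.2 b, b]
    · rw [a, b]
  have hcardT : Nat.card (S ⧸ (centralizer (E : Set S))) ≤ 8 := by
    have := Nat.card_le_card_of_injective Φ hinj
    rw [Nat.card_prod, hW4] at this
    simpa using this
  intro H M _ hHM
  have hMpos : 0 < Nat.card M := Nat.card_pos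
  have hHle : Nat.card H ≤ Nat.card (S ⧸ (centralizer (E : Set S))) := Subgroup.card_le_card_group H
  by_contra hcon
  push Not at hcon
  obtain ⟨k, hk⟩ := IsPGroup.iff_card.1 ((h2.to_quotient (centralizer (E : Set S))).to_subgroup H)
  obtain ⟨j, hj⟩ := IsPGroup.iff_card.1 ((h2.to_quotient (centralizer (E : Set S))).to_subgroup M)
  have hM1 : Nat.card M = 1 := by omega
  have hH8 : Nat.card H = 8 := by
    have h3 : k ≤ 3 := (Nat.pow_le_pow_iff_right (a := 2) (by norm_num)).1 (by rw [← hk]; omega)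
    interval_cases k <;> omega
  have hT : H = ⊤ := eq_of_le_of_card_ge le_top (by rw [card_top]; omega)
  have hexp : ∀ g : S ⧸ (centralizer (E : Set S)), g * g = 1 := fun g => by
    have := hHM.2 g (hT ▸ mem_top g)
    rwa [eq_bot_of_card_eq _ hM1, Subgroup.mem_bot] at this
  have hbij : Function.Bijective Φ := by
    refine (Nat.bijective_iff_injective_and_card Φ).2 ⟨hinj, ?_⟩
    rw [Nat.card_prod, hW4]
    have : Nat.card (S ⧸ (centralizer (E : Set S))) = 8 := by omega
    simpa using this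
  obtain ⟨gs, hgs⟩ := hbij.2 (false, ⟨1, one_mem W⟩)
  obtain ⟨gt, hgt⟩ := hbij.2 (true, ⟨e₁, he₁W⟩)
  simp only [Φ, Prod.mk.injEq, decide_eq_false_iff_not, decide_eq_true_eq, Subtype.mk.injEq]
    at hgs hgt
  obtain ⟨s₁, s₂⟩ := hgs
  obtain ⟨t₁, t₂⟩ := hgt
  set s := gs.out
  set t := gt.out
  have hs1 : psi s e₁ = z := (hψ₁ s).resolve_left s₁
  have hcomm : ρ (s * t) = ρ (t * s) := by
    have h1 := hexp (ρ (s * t))
    have h2 := hexp (ρ s)
    have h3 := hexp (ρ t)
    rw [map_mul] at h1 ⊢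
    rw [map_mul]
    calc ρ s * ρ t = (ρ s * ρ t)⁻¹ := (inv_eq_self h1).symm
      _ = ρ t * ρ s := by rw [mul_inv_rev, inv_eq_self h2, inv_eq_self h3]
  have hk : (s * t)⁻¹ * (t * s) ∈ (centralizer (E : Set S)) := QuotientGroup.eq.1 hcomm
  have h3 := hE.psi_mul_centralizer (s * t) hk he₂
  rw [mul_inv_cancel_left] at h3
  have es : s⁻¹ * e₂ * s = e₂ := by
    have := s₂; unfold psi at this
    calc s⁻¹ * e₂ * s = e₂ * (e₂ * (s⁻¹ * e₂ * s)) := (mul_self_cancel (hE.sq e₂ he₂) _).symm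
      _ = e₂ := by rw [this, mul_one]
  have et : t⁻¹ * e₂ * t = e₂ * e₁ := by
    have := t₂; unfold psi at this
    rw [← this, mul_self_cancel (hE.sq e₂ he₂)]
  have es1 : s⁻¹ * e₁ * s = e₁ * z := by
    have := hs1; unfold psi at this
    rw [← this, mul_self_cancel (hE.sq e₁ he₁)]
  have e1 : psi (t * s) e₂ = e₁ * z := by
    unfold psi
    rw [show (t * s)⁻¹ * e₂ * (t * s) = s⁻¹ * (t⁻¹ * e₂ * t) * s by group, et,
      show s⁻¹ * (e₂ * e₁) * s = (s⁻¹ * e₂ * s) * (s⁻¹ * e₁ * s) by group, es, es1,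
      mul_self_cancel (hE.sq e₂ he₂)]
  have e2 : psi (s * t) e₂ = e₁ := by
    unfold psi
    rw [show (s * t)⁻¹ * e₂ * (s * t) = t⁻¹ * (s⁻¹ * e₂ * s) * t by group, es, et,
      mul_self_cancel (hE.sq e₂ he₂)]
  rw [e1, e2] at h3
  exact hz1 (mul_eq_left.1 h3)

end

end Cfsg.Agent.Lib.HaradaEight
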