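import Mathlib
import Cfsg.Agent.Lib.HaradaEight.Action

/-!
# Normal elementary subgroups of order eight: structure of the centralizer and the count
-/

set_option autoImplicit false

namespace Cfsg.Agent.Lib.HaradaEight

open Subgroup

variable {S : Type*} [Group S]

/-- Data: a maximal normal elementary subgroup `E` of order eight not containing `A`. -/
structure Ctx (A E : Subgroup S) : Prop where
  eight : Eight A
  en : ElemNormal E
  card : Nat.card E = 8
  no16 : ∀ F : Subgroup S, F.Normal → ElemNormal F → Nat.card F ≠ 16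
  inter : Nat.card ↥(E ⊓ A) ≤ 4

variable [Finite S] {A E : Subgroup S}

namespace Ctx

variable (K : Ctx A E)
include K

theorem ne_bot : E ≠ ⊥ := fun he => by
  have := K.card
  rw [he, Subgroup.card_bot] at this
  omega

theorem card_fixE {a : S} (ha : a ∈ A) (haE : a ∉ E) : Nat.card (fixE E a) = 4 :=
  K.eight.card_fixE K.en K.ne_bot (by rw [K.card]) K.inter ha haE

theorem card_imgE {a : S} (ha : a ∈ A) (haE : a ∉ E) :
    Nat.card (imgE K.en (K.eight.sq a ha)) = 2 := by
  have h1 := card_imgE_mul_fixE K.en (K.eight.sq a ha)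
  rw [K.card_fixE ha haE, K.card] at h1
  omega

theorem img_eq {a : S} (ha : a ∈ A) (haE : a ∉ E) {β : S}
    (hβ : β ∈ imgE K.en (K.eight.sq a ha)) (hβ1 : β ≠ 1) {x : S}
    (hx : x ∈ imgE K.en (K.eight.sq a ha)) : x = 1 ∨ x = β := by
  obtain ⟨γ, -, hγ⟩ := exists_beta (N := imgE K.en (K.eight.sq a ha))
    (by rw [K.card_imgE ha haE]; omega) K.eight.pgroup
  rcases hγ x hx with h1 | h1
  · exact Or.inl h1
  · exact Or.inr (h1.trans ((hγ β hβ).resolve_left hβ1).symm)

theorem mem_of_fixed {a x : S} (ha : a ∈ A) (haE : a ∉ E) (hxC : x ∈ centralizer (E : Set S))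
    (hall : ∀ b ∈ A, b ∉ E → delta b x ∈ E) (hxa : delta a x ∈ imgE K.en (K.eight.sq a ha)) :
    x ∈ E :=
  K.eight.mem_of_fixed K.en K.ne_bot (by rw [K.card]) K.inter ha haE hxC hall hxa

omit [Finite S] in
omit K in
theorem delta_of_central {a x : S} (ha : a * a = 1) {L : Subgroup S}
    (hxc : ∀ s : S, x⁻¹ * s⁻¹ * x * s ∈ L) : delta a x ∈ L := by
  have h1 := inv_mem (hxc a)
  have h2 : (x⁻¹ * a⁻¹ * x * a)⁻¹ = delta a x := by
    unfold delta
    rw [show (x⁻¹ * a⁻¹ * x * a)⁻¹ = a⁻¹ * x⁻¹ * a * x by group, inv_eq_self ha]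
  rwa [h2] at h1

end Ctx

/-- An element of `C(E)` of order two modulo `E` and central modulo `E`. -/
structure Twist (A E : Subgroup S) (c : S) : Prop where
  mem : c ∈ centralizer (E : Set S)
  notMem : c ∉ E
  sq_mem : c * c ∈ E
  central : ∀ s : S, c⁻¹ * s⁻¹ * c * s ∈ E

namespace Ctx

variable (K : Ctx A E) {c : S} (T : Twist A E c)
include K T

theorem sq_central : c * c ∈ center S := by
  refine mem_center_iff.2 fun s => ?_
  have he := T.central s
  have h1 : s⁻¹ * c * s = c * (c⁻¹ * s⁻¹ * c * s) := by group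
  have hce : Commute c (c⁻¹ * s⁻¹ * c * s) := (mem_centralizer_iff.1 T.mem _ he).symm
  have h2 : s⁻¹ * (c * c) * s = c * c := by
    calc s⁻¹ * (c * c) * s = (s⁻¹ * c * s) * (s⁻¹ * c * s) := by group
      _ = (c * (c⁻¹ * s⁻¹ * c * s)) * (c * (c⁻¹ * s⁻¹ * c * s)) := by rw [h1]
      _ = c * c := by rw [hce.symm.mul_mul_mul_comm, K.en.sq _ he, mul_one]
  calc s * (c * c) = s * (s⁻¹ * (c * c) * s) := by rw [h2]
    _ = c * c * s := by group

theorem sq_mem_inter : c * c ∈ E ⊓ A :=
  ⟨T.sq_mem, K.eight.center_mem (K.sq_central T)⟩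

theorem sq_ne_one : c * c ≠ 1 := by
  intro hc2
  have hE := K.en
  have hcm : ∀ e ∈ E, c * e = e * c := fun e he => (mem_centralizer_iff.1 T.mem e he).symm
  let F : Subgroup S :=
    { carrier := {x | x ∈ E ∨ c * x ∈ E}
      one_mem' := Or.inl (one_mem E)
      mul_mem' := by
        intro x y hx hy
        rcases hx with hx | hx
        · rcases hy with hy | hy
          · exact Or.inl (mul_mem hx hy)
          · refine Or.inr ?_
            rw [← mul_assoc, hcm x hx, mul_assoc]
            exact mul_mem hx hy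
        · rcases hy with hy | hy
          · exact Or.inr (by rw [← mul_assoc]; exact mul_mem hx hy)
          · refine Or.inl ?_
            have h3 : x * y = (c * x) * (c * y) := by
              have h4 := hcm _ hx
              calc x * y = c * (c * x) * y := by rw [mul_self_cancel hc2]
                _ = (c * x) * c * y := by rw [h4]
                _ = (c * x) * (c * y) := by rw [mul_assoc]
            rw [h3]; exact mul_mem hx hy
      inv_mem' := by
        intro x hx
        rcases hx with hx | hx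
        · exact Or.inl (inv_mem hx)
        · refine Or.inr ?_
          have h4 := hcm _ (inv_mem hx)
          have h5 : c * x⁻¹ = (c * x)⁻¹ := by
            have h6 : x⁻¹ = (c * x)⁻¹ * c := by group
            calc c * x⁻¹ = c * ((c * x)⁻¹ * c) := by rw [← h6]
              _ = (c * x)⁻¹ * (c * c) := by rw [← mul_assoc, h4, mul_assoc]
              _ = (c * x)⁻¹ := by rw [hc2, mul_one]
          rw [h5]; exact inv_mem hx }
  have hEF : E ≤ F := fun x hx => Or.inl hx
  have hcF : c ∈ F := Or.inr (by rw [hc2]; exact one_mem E)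
  have hFn : F.Normal := ⟨fun x hx g => by
    rcases hx with hx | hx
    · exact Or.inl (hE.normal.conj_mem x hx g)
    · refine Or.inr ?_
      have h1 : c * (g * x * g⁻¹) = (c * (g * c⁻¹ * g⁻¹)) * (g * (c * x) * g⁻¹) := by group
      rw [h1]
      refine mul_mem ?_ (hE.normal.conj_mem _ hx g)
      have h2 := T.central g⁻¹
      rw [inv_inv, inv_eq_self hc2] at h2
      have h3 := hE.conj (c * g * c * g⁻¹) h2
      have h4 : c * (g * c⁻¹ * g⁻¹) = c * g * c * g⁻¹ := by rw [inv_eq_self hc2]; group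
      rw [h4]
      simpa using h2⟩
  have hval : ∀ x ∈ F, x * x = 1 ∧ (∀ e ∈ E, x * e = e * x) ∧ x * c = c * x := by
    rintro x (hx | hx)
    · exact ⟨hE.sq x hx, fun e he => hE.comm x hx e he, (hcm x hx).symm⟩
    · obtain ⟨y, hy, rfl⟩ : ∃ y ∈ E, x = c * y := ⟨c * x, hx, (mul_self_cancel hc2 x).symm⟩
      have hcy : Commute c y := hcm y hy
      refine ⟨?_, fun e he => ?_, ?_⟩
      · rw [hcy.symm.mul_mul_mul_comm, hc2, hE.sq y hy, one_mul]
      · exact (Commute.mul_left (hcm e he : Commute c e) (hE.comm y hy e he : Commute y e)).eq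
      · exact (Commute.mul_left (Commute.refl c) hcy.symm).eq
  have hFe : ElemNormal F := by
    refine ⟨hFn, fun x hx y hy => ?_, fun x hx => (hval x hx).1⟩
    rcases hy with hy | hy
    · exact (hval x hx).2.1 y hy
    · have h1 : Commute x c := (hval x hx).2.2
      have h2 : Commute x (c * y) := (hval x hx).2.1 _ hy
      have h3 := h1.mul_right h2
      rw [mul_self_cancel hc2] at h3
      exact h3
  refine K.no16 F hFn hFe ?_
  have : Fact (Nat.Prime 2) := ⟨Nat.prime_two⟩
  obtain ⟨k, hk⟩ := IsPGroup.iff_card.1 (K.eight.pgroup.to_subgroup F)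
  have hle : Nat.card F ≤ 16 := by
    have := card_le_of_cover (H := F) (M := E) ![1, c] fun x hx => by
      rcases hx with hx | hx
      · exact ⟨0, by simpa using hx⟩
      · exact ⟨1, by simpa [inv_eq_self hc2] using hx⟩
    rw [K.card] at this
    exact this
  have hge := Nat.le_of_dvd Nat.card_pos (card_dvd_of_le hEF)
  have hne : Nat.card F ≠ 8 := fun he => T.notMem
    ((eq_of_le_of_card_ge hEF (by rw [he, K.card])).symm ▸ hcF)
  rw [hk] at hle hge hne ⊢
  rw [K.card] at hge
  have hk4 : k ≤ 4 := (Nat.pow_le_pow_iff_right (a := 2) (by norm_num)).1 hle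
  interval_cases k <;> omega

theorem delta_c_mem {a : S} (ha : a ∈ A) : delta a c ∈ E :=
  delta_of_central (K.eight.sq a ha) T.central

theorem delta_c_notMem {a : S} (ha : a ∈ A) (haE : a ∉ E) :
    delta a c ∉ imgE K.en (K.eight.sq a ha) := fun hh =>
  T.notMem (K.mem_of_fixed ha haE T.mem (fun _ hb _ => K.delta_c_mem T hb) hh)

theorem fix_cases {a y : S} (ha : a ∈ A) (haE : a ∉ E) (hy : y ∈ fixE E a) :
    y ∈ imgE K.en (K.eight.sq a ha) ∨ delta a c * y ∈ imgE K.en (K.eight.sq a ha) := by
  have hu : delta a c ∈ fixE E a := mem_fixE.2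
    ⟨K.delta_c_mem T ha, (K.en.delta_commute (K.eight.sq a ha) (K.delta_c_mem T ha)).symm⟩
  have hle := imgE_le_fixE K.en (K.eight.sq a ha)
  have hidx : ((imgE K.en (K.eight.sq a ha)).subgroupOf (fixE E a)).index = 2 := by
    have h1 := Subgroup.card_mul_index ((imgE K.en (K.eight.sq a ha)).subgroupOf (fixE E a))
    rw [Nat.card_congr (subgroupOfEquivOfLe hle).toEquiv, K.card_imgE ha haE,
      K.card_fixE ha haE] at h1
    omega
  by_cases hyR : y ∈ imgE K.en (K.eight.sq a ha)
  · exact Or.inl hyR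
  · exact Or.inr ((mul_mem_iff_of_index_two hidx (a := (⟨_, hu⟩ : fixE E a)) (b := ⟨y, hy⟩)).2
      (iff_of_false (K.delta_c_notMem T ha haE) hyR))

/-- Multiplying by `c` shifts the commutator with `a`. -/
theorem delta_mul_c {a x : S} (ha : a ∈ A) (hx : delta a x ∈ E) :
    delta a (x * c) = delta a c * delta a x := by
  have hc : Commute c (delta a x) := (mem_centralizer_iff.1 T.mem _ hx).symm
  calc delta a (x * c) = a * c⁻¹ * (1 * x⁻¹) * a * x * c := by unfold delta; group
    _ = a * c⁻¹ * ((a * a) * x⁻¹) * a * x * c := by rw [K.eight.sq a ha]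
    _ = (a * c⁻¹ * a) * (delta a x * c) := by unfold delta; group
    _ = (a * c⁻¹ * a) * (c * delta a x) := by rw [hc.eq]
    _ = delta a c * delta a x := by unfold delta; group

/-- If some commutator lies in `c E`, then `c * c` is the commutator of `c`, up to `[E, a]`. -/
theorem twist {a x : S} (ha : a ∈ A) (hx : c * delta a x ∈ E) :
    c * c * delta a c ∈ imgE K.en (K.eight.sq a ha) := by
  have ha2 := K.eight.sq a ha
  have hE := K.en
  set u := delta a c with hu
  have huE : u ∈ E := K.delta_c_mem T ha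
  set e := c⁻¹ * delta a x with he
  have heE : e ∈ E := by
    have h1 := mul_mem (inv_mem T.sq_mem) hx
    have h2 : (c * c)⁻¹ * (c * delta a x) = e := by rw [he]; group
    rwa [h2] at h1
  have hd : delta a x = c * e := by rw [he]; group
  have hconj : a * delta a x * a = (delta a x)⁻¹ := by
    calc a * delta a x * a = (a * a) * x⁻¹ * a * x * a := by unfold delta; group
      _ = x⁻¹ * a⁻¹ * x * a⁻¹ := by rw [ha2, one_mul, inv_eq_self ha2]
      _ = (delta a x)⁻¹ := by unfold delta; group
  have hcu : Commute c u := (mem_centralizer_iff.1 T.mem _ huE).symm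
  have hce : Commute c e := (mem_centralizer_iff.1 T.mem _ heE).symm
  have hac : a * c * a = c * u := by
    have h1 : a * c⁻¹ * a = u * c⁻¹ := by rw [hu]; unfold delta; group
    calc a * c * a = a⁻¹ * c * a⁻¹ := by rw [inv_eq_self ha2]
      _ = (a * c⁻¹ * a)⁻¹ := by group
      _ = c * u⁻¹ := by rw [h1]; group
      _ = c * u := by rw [inv_eq_self (hE.sq u huE)]
  rw [hd] at hconj
  have h2 : a * (c * e) * a = (c * u) * (a * e * a) := by
    calc a * (c * e) * a = a * c * 1 * e * a := by group
      _ = a * c * (a * a) * e * a := by rw [ha2]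
      _ = (a * c * a) * (a * e * a) := by group
      _ = (c * u) * (a * e * a) := by rw [hac]
  rw [h2] at hconj
  have haea : a * e * a ∈ E := by
    have := hE.conj a heE
    rwa [inv_eq_self ha2] at this
  have h3 : (c * u) * (a * e * a) * (c * e) = 1 := by rw [hconj, inv_mul_cancel]
  have h4 : c * c * (u * ((a * e * a) * e)) = 1 := by
    have hcv : Commute c (u * (a * e * a)) :=
      (mem_centralizer_iff.1 T.mem _ (mul_mem huE haea)).symm
    calc c * c * (u * ((a * e * a) * e)) = c * (c * (u * (a * e * a))) * e := by group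
      _ = c * ((u * (a * e * a)) * c) * e := by rw [hcv.eq]
      _ = (c * u) * (a * e * a) * (c * e) := by group
      _ = 1 := h3
  refine (mem_imgE hE ha2).2 ⟨e, heE, ?_⟩
  have h5 : c * c = u * ((a * e * a) * e) := by
    have h6 : (u * ((a * e * a) * e))⁻¹ = u * ((a * e * a) * e) :=
      inv_eq_self (hE.sq _ (mul_mem huE (mul_mem haea heE)))
    rw [← h6]
    exact eq_inv_of_mul_eq_one_left h4
  rw [h5, mul_assoc, hE.comm _ (mul_mem haea heE) u huE, ← mul_assoc, hE.sq u huE, one_mul]
  unfold delta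
  rw [inv_eq_self (hE.sq e heE)]

/-- If `|E ∩ A| = 2`, then `c * c` is a commutator from `E` with each involution of `A`. -/
theorem sq_mem_img (hI : Nat.card ↥(E ⊓ A) = 2) {a : S} (ha : a ∈ A) (haE : a ∉ E) :
    c * c ∈ imgE K.en (K.eight.sq a ha) := by
  have hz := K.sq_mem_inter T
  obtain ⟨b, hb, hbE, -, hyz⟩ := K.eight.pair hI hz (K.sq_ne_one T) (K.sq_central T) ha haE
  obtain ⟨β, hβ, hβ1⟩ := (imgE K.en (K.eight.sq a ha)).bot_or_exists_ne_one.resolve_left (fun h0 => by
    have := K.card_imgE ha haE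
    rw [h0, Subgroup.card_bot] at this
    omega)
  obtain ⟨hβE, hβa⟩ := mem_fixE.1 (imgE_le_fixE K.en _ hβ)
  have hbβ : b * β * b = β := by
    obtain ⟨e, he, heβ⟩ := (mem_imgE K.en _).1 hβ
    have hb2 := K.eight.sq b hb
    have hbe : b * e * b ∈ E := by
      have := K.en.conj b he
      rwa [inv_eq_self hb2] at this
    have hab : Commute a b := K.eight.comm a ha b hb
    have h1 : b * β * b ∈ imgE K.en (K.eight.sq a ha) := (mem_imgE K.en _).2 ⟨b * e * b, hbe, by
      rw [← heβ, K.en.delta_eq_psi (K.eight.sq a ha) hbe, K.en.delta_eq_psi (K.eight.sq a ha) he]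
      unfold psi
      rw [inv_eq_self (K.eight.sq a ha)]
      calc b * e * b * (a * (b * e * b) * a) = b * e * b * ((a * b) * e * (b * a)) := by group
        _ = b * e * b * ((b * a) * e * (a * b)) := by rw [hab.eq]
        _ = b * e * (b * b) * (a * e * a) * b := by group
        _ = b * (e * (a * e * a)) * b := by rw [hb2]; group⟩
    refine (K.img_eq ha haE hβ hβ1 h1).resolve_left fun h2 => hβ1 ?_
    calc β = (b * b) * β * (b * b) := by rw [hb2]; simp
      _ = b * (b * β * b) * b := by group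
      _ = 1 := by rw [h2, mul_one, hb2]
  have hbβ' : β * b = b * β := by
    calc β * b = (b * β * b) * b := by rw [hbβ]
      _ = b * β := by rw [mul_assoc, K.eight.sq b hb, mul_one]
  exact ((hyz β hβE hβa hbβ').resolve_left hβ1) ▸ hβ

/-- Either `C(E) = E ∪ cE`, or `|E ∩ A| = 4` and `c * c` is congruent to the commutator of `c`. -/
theorem dichotomy {a₀ : S} (ha₀ : a₀ ∈ A) (ha₀E : a₀ ∉ E) :
    (∀ x ∈ centralizer (E : Set S), x ∈ E ∨ c * x ∈ E) ∨
      (Nat.card ↥(E ⊓ A) = 4 ∧ c * c * delta a₀ c ∈ imgE K.en (K.eight.sq a₀ ha₀)) := by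
  by_contra hcon
  push Not at hcon
  obtain ⟨⟨x₀, hx₀C, hx₀E, hx₀c⟩, hnot⟩ := hcon
  have hE := K.en
  have := hE.normal
  have hcm : ∀ e ∈ E, c * e = e * c := fun e he => (mem_centralizer_iff.1 T.mem e he).symm
  have hcinv : ∀ y, c * y ∈ E → c⁻¹ * y ∈ E := fun y hy => by
    have h := mul_mem (inv_mem T.sq_mem) hy
    have h2 : (c * c)⁻¹ * (c * y) = c⁻¹ * y := by group
    rwa [h2] at h
  let C₁ : Subgroup S :=
    { carrier := {x | x ∈ E ∨ c * x ∈ E}
      one_mem' := Or.inl (one_mem E)
      mul_mem' := by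
        intro x y hx hy
        rcases hx with hx | hx
        · rcases hy with hy | hy
          · exact Or.inl (mul_mem hx hy)
          · refine Or.inr ?_
            rw [← mul_assoc, hcm x hx, mul_assoc]
            exact mul_mem hx hy
        · rcases hy with hy | hy
          · exact Or.inr (by rw [← mul_assoc]; exact mul_mem hx hy)
          · refine Or.inl ?_
            have h3 : x * y = (c * c)⁻¹ * ((c * x) * (c * y)) := by
              have h4 := hcm _ hx
              calc x * y = (c * c)⁻¹ * (c * (c * x)) * y := by group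
                _ = (c * c)⁻¹ * ((c * x) * c) * y := by rw [h4]
                _ = (c * c)⁻¹ * ((c * x) * (c * y)) := by group
            rw [h3]; exact mul_mem (inv_mem T.sq_mem) (mul_mem hx hy)
      inv_mem' := by
        intro x hx
        rcases hx with hx | hx
        · exact Or.inl (inv_mem hx)
        · refine Or.inr ?_
          have h4 := hcm _ (inv_mem hx)
          have h6 : c * x⁻¹ = (c * x)⁻¹ * (c * c) := by
            calc c * x⁻¹ = c * (c * x)⁻¹ * c := by group
              _ = (c * x)⁻¹ * c * c := by rw [h4]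
              _ = (c * x)⁻¹ * (c * c) := by group
          rw [h6]; exact mul_mem (inv_mem hx) T.sq_mem }
  have hC₁n : C₁.Normal := ⟨fun x hx g => by
    rcases hx with hx | hx
    · exact Or.inl (hE.normal.conj_mem x hx g)
    · refine Or.inr ?_
      have h1 : c * (g * x * g⁻¹) = (c * (g * c⁻¹ * g⁻¹)) * (g * (c * x) * g⁻¹) := by group
      rw [h1]
      refine mul_mem ?_ (hE.normal.conj_mem _ hx g)
      have h2 := inv_mem (hE.conj c⁻¹ (T.central g⁻¹))
      simpa [mul_assoc] using h2⟩
  have hle : ¬ centralizer (E : Set S) ≤ C₁ := fun hle => (hle hx₀C).elim hx₀E hx₀c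
  obtain ⟨x, hxC, hxn, -, hxc⟩ := exists_central_step K.eight.pgroup (K := C₁) hle
  have hd : ∀ b ∈ A, delta b x ∈ E ∨ c * delta b x ∈ E := fun b hb =>
    delta_of_central (K.eight.sq b hb) hxc
  by_cases hall : ∀ b ∈ A, b ∉ E → delta b x ∈ E
  · have hK0 : delta a₀ x ∈ fixE E a₀ := mem_fixE.2 ⟨hall a₀ ha₀ ha₀E,
      (hE.delta_commute (K.eight.sq a₀ ha₀) (hall a₀ ha₀ ha₀E)).symm⟩
    rcases K.fix_cases T ha₀ ha₀E hK0 with h1 | h1
    · exact hxn (Or.inl (K.mem_of_fixed ha₀ ha₀E hxC hall h1))
    · refine hxn ?_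
      have h2 : x * c ∈ E := K.mem_of_fixed ha₀ ha₀E (mul_mem hxC T.mem)
        (fun b hb hbE => by
          rw [K.delta_mul_c T hb (hall b hb hbE)]
          exact mul_mem (K.delta_c_mem T hb) (hall b hb hbE))
        (by rw [K.delta_mul_c T ha₀ (hall a₀ ha₀ ha₀E)]; exact h1)
      have h3 : c⁻¹ ∈ C₁ := C₁.inv_mem (Or.inr T.sq_mem)
      have h4 : x * c * c⁻¹ ∈ C₁ := C₁.mul_mem (Or.inl h2) h3
      simpa using h4
  · push Not at hall
    obtain ⟨b, hb, hbE, hbx⟩ := hall
    have htw := K.twist T hb ((hd b hb).resolve_left hbx)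
    rcases K.eight.card_inter_cases (E := E) with hI | hI | hI | hI
    · obtain ⟨z, hz, hz1, -⟩ := K.eight.exists_z hE K.ne_bot
      have : E ⊓ A = ⊥ := eq_bot_of_card_eq _ hI
      exact hz1 (Subgroup.mem_bot.1 (this ▸ hz))
    · refine K.delta_c_notMem T hb hbE ?_
      have := mul_mem (inv_mem (K.sq_mem_img T hI hb hbE)) htw
      rwa [inv_mul_cancel_left] at this
    · refine hnot hI (K.twist T (x := x) ha₀ ?_)
      have h1 := ((K.eight.quad hI ha₀ ha₀E).2 b hb).resolve_left hbE
      have h2 : delta a₀ x = delta b x := by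
        set e := a₀ * b with he
        have hb' : b = a₀ * e := by rw [he, mul_self_cancel (K.eight.sq a₀ ha₀)]
        have hae : Commute a₀ e := K.eight.comm a₀ ha₀ e (mul_mem ha₀ hb)
        have hex : Commute e x := mem_centralizer_iff.1 hxC e h1
        have hex' : Commute e x⁻¹ := hex.inv_right
        unfold delta
        rw [hb']
        calc a₀ * x⁻¹ * a₀ * x = a₀ * x⁻¹ * a₀ * (e * e) * x := by rw [hE.sq e h1, mul_one]
          _ = a₀ * x⁻¹ * (a₀ * e) * (e * x) := by group
          _ = a₀ * x⁻¹ * (e * a₀) * (e * x) := by rw [hae.eq]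
          _ = a₀ * (x⁻¹ * e) * a₀ * e * x := by group
          _ = a₀ * (e * x⁻¹) * a₀ * e * x := by rw [hex'.eq]
          _ = a₀ * e * x⁻¹ * (a₀ * e) * x := by group
      rw [h2]
      exact (hd b hb).resolve_left hbx
    · have := K.inter
      omega

end Ctx

end Cfsg.Agent.Lib.HaradaEight
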