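import Mathlib
import Cfsg.Agent.Lib.HaradaEight.Centralizer

/-!
# The count when the largest normal elementary subgroup has order eight
-/

set_option autoImplicit false

namespace Cfsg.Agent.Lib.HaradaEight

open Subgroup

variable {S : Type*} [Group S]

theorem combine {a b w a' b' w' i j k : ℕ} (ha : a ≤ i * a') (hb : b ≤ j * b') (hw : w ≤ k * w')
    (h : i * j * k ≤ 16) : a * (b * w) ≤ 16 * (a' * (b' * w')) := by
  calc a * (b * w) ≤ (i * a') * ((j * b') * (k * w')) := Nat.mul_le_mul ha (Nat.mul_le_mul hb hw)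
    _ = (i * j * k) * (a' * (b' * w')) := by ring
    _ ≤ 16 * (a' * (b' * w')) := Nat.mul_le_mul_right _ h

theorem ElemNormal.eq_mod_of_psi {E : Subgroup S} (hE : ElemNormal E) [E.Normal] {s t : S}
    (h : ∀ e ∈ E, psi s e = psi t e) : s⁻¹ * t ∈ centralizer (E : Set S) := by
  refine mem_centralizer_iff.2 fun e he => ?_
  have h7 : s⁻¹ * (t * e * t⁻¹) * s = t⁻¹ * (t * e * t⁻¹) * t :=
    mul_left_cancel (h _ (hE.normal.conj_mem e he t))
  have h8 : s⁻¹ * (t * e * t⁻¹) * s = e := by rw [h7]; group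
  calc e * (s⁻¹ * t) = (s⁻¹ * (t * e * t⁻¹) * s) * (s⁻¹ * t) := by rw [h8]
    _ = s⁻¹ * t * e := by group

/-- Elements agreeing on five elements of `E` agree modulo the centralizer. -/
theorem eq_mod_of_five [Finite S] {E : Subgroup S} (hE : ElemNormal E) [E.Normal]
    (h8 : Nat.card E = 8) {β e₁ e₂ : S} (hβ : β ∈ E) (hβ1 : β ≠ 1) (he₁ : e₁ ∈ E) (he₂ : e₂ ∈ E)
    (n1 : e₁ ≠ 1) (n2 : e₁ ≠ β) (n3 : e₂ ≠ 1) (n4 : e₂ ≠ β) (n5 : e₂ ≠ e₁) (n6 : e₂ ≠ β * e₁)
    {s t : S} (h0 : psi s β = psi t β) (h1 : psi s e₁ = psi t e₁) (h2 : psi s e₂ = psi t e₂) :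
    s⁻¹ * t ∈ centralizer (E : Set S) := by
  let D : Subgroup S :=
    { carrier := {e | e ∈ E ∧ psi s e = psi t e}
      one_mem' := ⟨one_mem E, by simp [psi]⟩
      mul_mem' := fun {x y} hx hy => ⟨mul_mem hx.1 hy.1, by
        rw [hE.psi_mul s hx.1 hy.1, hE.psi_mul t hx.1 hy.1, hx.2, hy.2]⟩
      inv_mem' := fun {x} hx => by
        show x⁻¹ ∈ E ∧ psi s x⁻¹ = psi t x⁻¹
        rw [inv_eq_self (hE.sq x hx.1)]
        exact hx }
  have hD : D = E := by
    have hle : D ≤ E := fun x hx => hx.1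
    have hβD : β ∈ D := ⟨hβ, h0⟩
    have he₁D : e₁ ∈ D := ⟨he₁, h1⟩
    have h5 : 5 ≤ Nat.card D := by
      have := Nat.card_le_card_of_injective (![⟨1, one_mem _⟩, ⟨β, hβD⟩, ⟨e₁, he₁D⟩,
        ⟨β * e₁, mul_mem hβD he₁D⟩, ⟨e₂, ⟨he₂, h2⟩⟩] : Fin 5 → D) (by
          intro i j hij
          have h' := congrArg Subtype.val hij
          fin_cases i <;> fin_cases j <;> simp at h' ⊢ <;>
            first
              | exact absurd h' hβ1
              | exact absurd h'.symm hβ1
              | exact absurd h' n1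
              | exact absurd h'.symm n1
              | exact absurd h' n2
              | exact absurd h'.symm n2
              | exact absurd h' n3
              | exact absurd h'.symm n3
              | exact absurd h' n4
              | exact absurd h'.symm n4
              | exact absurd h' n5
              | exact absurd h'.symm n5
              | exact absurd h' n6
              | exact absurd h'.symm n6
              | exact absurd (mul_eq_left.1 h') n1
              | exact absurd (mul_eq_left.1 h'.symm) n1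
              | exact absurd (mul_eq_right.1 h') hβ1
              | exact absurd (mul_eq_right.1 h'.symm) hβ1
              | exact absurd (by rw [← inv_eq_self (hE.sq β hβ)]
                                 exact (eq_inv_of_mul_eq_one_right h')) n2
              | exact absurd (by rw [← inv_eq_self (hE.sq β hβ)]
                                 exact (eq_inv_of_mul_eq_one_right h'.symm)) n2)
      rwa [Nat.card_fin] at this
    obtain ⟨k, hk, he⟩ := (Nat.dvd_prime_pow Nat.prime_two).1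
      (show Nat.card D ∣ 2 ^ 3 by
        rw [show (2 : ℕ) ^ 3 = Nat.card E from h8.symm]
        exact card_dvd_of_le hle)
    refine eq_of_le_of_card_ge hle ?_
    rw [h8, he]
    rw [he] at h5
    interval_cases k <;> simp_all
  exact hE.eq_mod_of_psi fun e he => ((hD.symm ▸ he : e ∈ D)).2

variable [Finite S] {A E : Subgroup S}

/-- **Harada's theorem with a maximal normal elementary subgroup of order eight.** -/
theorem eight_case (h : Eight A) (hE : ElemNormal E) [E.Normal] (h8 : Nat.card E = 8)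
    (hno16 : ∀ F : Subgroup S, F.Normal → ElemNormal F → Nat.card F ≠ 16)
    (H M : Subgroup S) (hHM : SqIn H M) : Nat.card H ≤ 16 * Nat.card M := by
  classical
  have : Fact (Nat.Prime 2) := ⟨Nat.prime_two⟩
  have hne : E ≠ ⊥ := fun he => by rw [he, Subgroup.card_bot] at h8; omega
  obtain ⟨z, hz, hz1, hzc⟩ := h.exists_z hE hne
  have hCn : (centralizer (E : Set S)).Normal := inferInstance
  set C := centralizer (E : Set S) with hC
  have hEC : E ≤ C := hE.le_centralizer
  let ρ := QuotientGroup.mk' C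
  let π := QuotientGroup.mk' E
  have hπ1 : ∀ {x : S}, π x = 1 ↔ x ∈ E := fun {x} => QuotientGroup.eq_one_iff x
  have hρ1 : ∀ {x : S}, ρ x = 1 ↔ x ∈ C := fun {x} => QuotientGroup.eq_one_iff x
  have hQ : IsPGroup 2 (S ⧸ E) := h.pgroup.to_quotient E
  have haa : Nat.card (H.map ρ) ≤ 4 * Nat.card (M.map ρ) :=
    rank2_action h.pgroup hE h8 hz.1 hz1 hzc (H.map ρ) (M.map ρ) le_top (hHM.map ρ)
  have hsplit : ∀ L : Subgroup S, Nat.card L =
      Nat.card (L.map ρ) * (Nat.card ((L ⊓ C).map π) * Nat.card ↥(L ⊓ E)) := fun L => by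
    have h1 := card_map_mul ρ L
    rw [QuotientGroup.ker_mk'] at h1
    have h2 := card_map_mul π (L ⊓ C)
    rw [QuotientGroup.ker_mk', inf_assoc, inf_eq_right.2 hEC] at h2
    rw [h1, h2]
  rw [hsplit H, hsplit M]
  set W := H ⊓ E with hWdef
  set N := M ⊓ E with hNdef
  have hW8 : Nat.card W ≤ 8 := h8 ▸ Nat.le_of_dvd Nat.card_pos (card_dvd_of_le inf_le_right)
  have hNpos : 0 < Nat.card N := Nat.card_pos
  obtain ⟨w, hw, hweq⟩ : ∃ w, w ≤ 3 ∧ Nat.card W = 2 ^ w := by
    obtain ⟨w, hw, he⟩ := (Nat.dvd_prime_pow Nat.prime_two).1 (show Nat.card W ∣ 2 ^ 3 by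
      rw [show (2 : ℕ) ^ 3 = Nat.card E from h8.symm]
      exact card_dvd_of_le inf_le_right)
    exact ⟨w, hw, he⟩
  have hW48 : Nat.card W ≤ 4 ∨ Nat.card W = 8 := by interval_cases w <;> omega
  have hWfull : Nat.card W = 8 → ∀ e ∈ E, e ∈ H := fun hc e he => by
    have h1 : W = E := eq_of_le_of_card_ge inf_le_right (by omega)
    exact (h1.symm ▸ he : e ∈ W).1
  have hψN : Nat.card W = 8 → ∀ x ∈ H, ∀ e ∈ E, psi x e ∈ N := fun hc x hx e he =>
    ⟨hE.psi_mem_sq hHM he (hWfull hc e he) hx, hE.psi_mem x he⟩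
  have hw4 : ¬ H ≤ C → Nat.card W ≤ 4 * Nat.card N := fun hHC => by
    rcases hW48 with hc | hc
    · omega
    · obtain ⟨g, hg, hgC⟩ := SetLike.not_le_iff_exists.1 hHC
      suffices 2 ≤ Nat.card N by omega
      by_contra h1
      push Not at h1
      have hN1 : N = ⊥ := eq_bot_of_card_eq _ (by omega)
      exact hgC (hE.mem_centralizer_of_psi fun e he =>
        Subgroup.mem_bot.1 (hN1 ▸ hψN hc g hg e he))
  have ha1 : H ≤ C → Nat.card (H.map ρ) ≤ 1 * Nat.card (M.map ρ) := fun hHC => by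
    have : H.map ρ = ⊥ := by
      rw [Subgroup.map_eq_bot_iff, QuotientGroup.ker_mk']
      exact hHC
    rw [this, Subgroup.card_bot, one_mul]
    exact Nat.card_pos
  have hw8 : Nat.card W ≤ 8 * Nat.card N := by omega
  by_cases hb1 : Nat.card ((H ⊓ C).map π) ≤ 1 * Nat.card ((M ⊓ C).map π)
  · by_cases hHC : H ≤ C
    · exact combine (ha1 hHC) hb1 hw8 (by norm_num)
    · exact combine haa hb1 (hw4 hHC) (by norm_num)
  have hCE : ¬ C ≤ E := fun hle => hb1 (by
    have : (H ⊓ C).map π = ⊥ := by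
      rw [Subgroup.map_eq_bot_iff, QuotientGroup.ker_mk']
      exact inf_le_right.trans hle
    rw [this, Subgroup.card_bot, one_mul]
    exact Nat.card_pos)
  have hI : Nat.card ↥(E ⊓ A) ≤ 4 := by
    rcases h.card_inter_cases (E := E) with hc | hc | hc | hc
    · omega
    · omega
    · omega
    · exfalso
      have hAE : A ≤ E := by
        have := eq_of_le_of_card_ge (inf_le_right : E ⊓ A ≤ A) (by rw [hc, h.card])
        exact this ▸ inf_le_left
      exact hCE fun x hx => hAE (h.self x fun a ha => (mem_centralizer_iff.1 hx a (hAE ha)).symm)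
  have K : Ctx A E := ⟨h, hE, h8, hno16, hI⟩
  obtain ⟨c, hcC, hcE, hcsq, hcc⟩ := exists_central_step h.pgroup hCE
  have T : Twist A E c := ⟨hcC, hcE, hcsq, hcc⟩
  obtain ⟨a, ha, haE⟩ := h.exists_notMem hE hI
  have ha2 := h.sq a ha
  have haC : a ∉ C := fun hh => by
    have h4 := K.card_fixE ha haE
    have : fixE E a = E := le_antisymm inf_le_left fun e he =>
      mem_fixE.2 ⟨he, mem_centralizer_iff.1 hh e he⟩
    rw [this] at h4
    omega
  have hcπ : π c * π c = 1 := by rw [← map_mul, hπ1]; exact hcsq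
  have hcπ1 : π c ≠ 1 := fun hh => hcE (hπ1.1 hh)
  have hcen : ∀ g, g * π c = π c * g := fun g => by
    obtain ⟨s, rfl⟩ := QuotientGroup.mk'_surjective E g
    rw [← map_mul, ← map_mul]
    refine QuotientGroup.eq.2 ?_
    simpa [mul_assoc] using hcc s
  have hcinv : ∀ {x : S}, c * x ∈ E → c⁻¹ * x ∈ E := fun {x} hx => by
    have h1 := mul_mem (inv_mem hcsq) hx
    have h2 : (c * c)⁻¹ * (c * x) = c⁻¹ * x := by group
    rwa [h2] at h1
  set Cb := C.map π with hCb
  have hmemC : ∀ {x : S}, π x ∈ Cb → x ∈ C := fun {x} hx => by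
    obtain ⟨k, hk, hkx⟩ := hx
    have h1 : k⁻¹ * x ∈ E := QuotientGroup.eq.1 hkx
    simpa using C.mul_mem hk (hEC h1)
  have hHCle : (H ⊓ C).map π ≤ Cb := map_mono inf_le_right
  -- an element of `H` over `c`
  have hcN : π c ∈ (H ⊓ C).map π → c * c ∈ N := by
    rintro ⟨x, hx, hxc⟩
    have h1 : c⁻¹ * x ∈ E := QuotientGroup.eq.1 hxc.symm
    have h2 : x * x = c * c := by
      have hcm : Commute (c⁻¹ * x) c := mem_centralizer_iff.1 hcC _ h1
      calc x * x = (c * (c⁻¹ * x)) * (c * (c⁻¹ * x)) := by group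
        _ = (c * c) * ((c⁻¹ * x) * (c⁻¹ * x)) := hcm.mul_mul_mul_comm _ _
        _ = c * c := by rw [hE.sq _ h1, mul_one]
    exact ⟨h2 ▸ hHM.2 x hx.1, hcsq⟩
  have hN2 : c * c ∈ N → 2 ≤ Nat.card N := fun hh => by
    by_contra h1
    push Not at h1
    exact K.sq_ne_one T (Subgroup.mem_bot.1 ((eq_bot_of_card_eq N (by omega)) ▸ hh))
  -- four-group case facts
  set R₀ := centralizer ((E ⊓ A : Subgroup S) : Set S) with hR₀
  have hCR : C ≤ R₀ := centralizer_le fun x hx => hx.1
  have haR : a ∈ R₀ := mem_centralizer_iff.2 fun y (hy : y ∈ E ⊓ A) => h.comm y hy.2 a ha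
  set Rb := R₀.map π with hRb
  have hR4 : Nat.card ↥(E ⊓ A) = 4 →
      Nat.card ↥(Rb ⊓ centralizer ({π a} : Set (S ⧸ E))) ≤ 4 := by
    intro hI4
    have hδ : ∀ {x : S}, π x * π a = π a * π x → delta a x ∈ E := by
      intro x hx
      rw [← hπ1]
      unfold delta
      have : π a * π a = 1 := by rw [← map_mul, ha2, map_one]
      simp only [map_mul, map_inv]
      calc π a * (π x)⁻¹ * π a * π x = π a * (π x)⁻¹ * (π a * π x) := by group
        _ = π a * (π x)⁻¹ * (π x * π a) := by rw [hx]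
        _ = 1 := by rw [mul_assoc, inv_mul_cancel_left, this]
    have hA2 : Nat.card (A.map π) = 2 := by
      have h1 := card_map_mul π A
      rw [QuotientGroup.ker_mk', inf_comm, hI4, h.card] at h1
      omega
    have hER : E ≤ R₀ := hEC.trans hCR
    refine le_trans (card_le_of_cover (M := A.map π) ![1, π c] ?_) (by omega)
    rintro g ⟨⟨x, hxR, rfl⟩, hg⟩
    have hx := hδ (mem_centralizer_singleton_iff.1 hg)
    have hxK : delta a x ∈ fixE E a := mem_fixE.2 ⟨hx, (hE.delta_commute ha2 hx).symm⟩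
    rcases K.fix_cases T ha haE hxK with h1 | h1
    · obtain ⟨d, hd, hcomm⟩ := exists_adjust hE ha2 h1
      refine ⟨0, x * d, (h.quad hI4 ha haE).1 _ hcomm.symm (fun y hy => ?_), ?_⟩
      · exact (mem_centralizer_iff.1 (mul_mem hxR (hER hd)) y hy).symm
      · simp [map_mul, hπ1.2 hd]
    · obtain ⟨d, hd, hcomm⟩ := exists_adjust hE ha2 (K.delta_mul_c T ha hx ▸ h1)
      refine ⟨1, x * c * d, (h.quad hI4 ha haE).1 _ hcomm.symm (fun y hy => ?_), ?_⟩
      · exact (mem_centralizer_iff.1 (mul_mem (mul_mem hxR (hCR hcC)) (hER hd)) y hy).symm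
      · show π (x * c * d) = (π c)⁻¹ * π x
        rw [map_mul, map_mul, hπ1.2 hd, mul_one, hcen, inv_eq_self hcπ]
  have hπa1 : π a ≠ 1 := fun hh => haE (hπ1.1 hh)
  have hπa2 : π a * π a = 1 := by rw [← map_mul, ha2, map_one]
  -- consequences of a cyclic subgroup of index two
  have hclasses : ∀ {Q : Subgroup (S ⧸ E)}, IsCyclic Q → Q ≤ Rb →
      (∀ x ∈ Rb, ∀ y ∈ Rb, x ∉ Q → y ∉ Q → x * y ∈ Q) → Nat.card ↥(E ⊓ A) = 4 →
      ¬ Cb ≤ Q → ∀ r ∈ R₀, r ∈ C ∨ a⁻¹ * r ∈ C := by
    intro Q hQc hQR hmul hI4 hnle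
    obtain ⟨k, hk, hkQ⟩ := SetLike.not_le_iff_exists.1 hnle
    obtain ⟨⟨q, hq⟩, hgen⟩ := hQc.exists_generator
    have hkR : k ∈ Rb := map_mono hCR hk
    have hq2 : q * q ∈ Cb := by
      obtain ⟨r, hr, hrq⟩ := hQR hq
      refine ⟨r * r, hE.sq_mem_centralizer fun e he => ?_, by rw [map_mul, hrq]⟩
      have hfix : fixE E a = E ⊓ A := (eq_of_le_of_card_ge
        (fun y (hy : y ∈ E ⊓ A) => mem_fixE.2 ⟨hy.1, h.comm y hy.2 a ha⟩)
        (by rw [K.card_fixE ha haE, hI4])).symm
      have hidx : ((E ⊓ A).subgroupOf E).index = 2 := by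
        have h1 := Subgroup.card_mul_index ((E ⊓ A).subgroupOf E)
        rw [Nat.card_congr (subgroupOfEquivOfLe inf_le_left).toEquiv, hI4, h8] at h1
        omega
      exact (mem_centralizer_iff.1 hr _ (hE.psi_mem_of_fix inf_le_left hidx
        (fun v hv => (mem_centralizer_iff.1 hr v hv).symm) he)).symm
    have hCbn : Cb.Normal := hCn.map π (QuotientGroup.mk'_surjective E)
    have hQ' : ∀ y ∈ Q, y ∈ Cb ∨ q⁻¹ * y ∈ Cb := fun y hy => pow_mem_or hq2 (by
      obtain ⟨i, hi⟩ := mem_zpowers_iff.1 (hgen ⟨y, hy⟩)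
      exact ⟨i, by simpa using congrArg Subtype.val hi⟩)
    have hall : ∀ g ∈ Rb, g ∈ Cb ∨ q⁻¹ * g ∈ Cb := by
      intro g hg
      by_cases hgQ : g ∈ Q
      · exact hQ' g hgQ
      have h1 : k⁻¹ * g ∈ Q := hmul _ (inv_mem hkR) _ hg (fun hh => hkQ (by simpa using inv_mem hh)) hgQ
      rcases hQ' _ h1 with h2 | h2
      · exact Or.inl (by simpa using Cb.mul_mem hk h2)
      · refine Or.inr ?_
        have h3 : q⁻¹ * g = (q⁻¹ * k * q) * (q⁻¹ * (k⁻¹ * g)) := by group
        rw [h3]
        exact Cb.mul_mem (by simpa using hCbn.conj_mem k hk q⁻¹) h2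
    have haCb : π a ∉ Cb := fun hh => haC (hmemC hh)
    intro r hr
    rcases hall _ (mem_map_of_mem π hr) with h1 | h1
    · exact Or.inl (hmemC h1)
    · refine Or.inr (hmemC ?_)
      have h2 := (hall _ (mem_map_of_mem π haR)).resolve_left haCb
      have h3 := Cb.mul_mem (Cb.inv_mem h2) h1
      rw [map_mul, map_inv]
      simpa [mul_assoc] using h3
  by_cases hcyc : IsCyclic Cb
  · -- the centralizer is cyclic over `E`
    have hb2 : Nat.card ((H ⊓ C).map π) ≤ 2 * Nat.card ((M ⊓ C).map π) :=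
      card_le_two_of_cyclic hHCle ((hHM.inf C).map π)
    by_cases ha2' : Nat.card (H.map ρ) ≤ 2 * Nat.card (M.map ρ)
    · by_cases hHC : H ≤ C
      · exact combine (ha1 hHC) hb2 hw8 (by norm_num)
      · exact combine ha2' hb2 (hw4 hHC) (by norm_num)
    have hne' : ¬ (H ⊓ C).map π = ⊥ := fun hh => hb1 (by
      rw [hh, Subgroup.card_bot, one_mul]; exact Nat.card_pos)
    obtain ⟨g, hg, hg1⟩ := ((H ⊓ C).map π).bot_or_exists_ne_one.resolve_left hne'
    have hcH : π c ∈ (H ⊓ C).map π :=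
      involution_mem hQ hcyc (mem_map_of_mem π hcC) hcπ1 hcπ hg (hHCle hg) hg1
    have hβN := hcN hcH
    suffices hw2 : Nat.card W ≤ 2 * Nat.card N from combine haa hb2 hw2 (by norm_num)
    by_contra hw2
    push Not at hw2
    have := hN2 hβN
    have hWc : Nat.card W = 8 := by rcases hW48 with hc | hc <;> omega
    obtain ⟨β', -, hβ'⟩ := exists_beta (N := N) (by omega) h.pgroup
    set β := c * c with hβdef
    have hβ1 : β ≠ 1 := K.sq_ne_one T
    have hNβ : ∀ x ∈ N, x = 1 ∨ x = β := fun x hx => by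
      rcases hβ' x hx with h1 | h1
      · exact Or.inl h1
      · exact Or.inr (h1.trans ((hβ' β hβN).resolve_left hβ1).symm)
    have hval : ∀ x ∈ H, ∀ e ∈ E, psi x e = 1 ∨ psi x e = β := fun x hx e he =>
      hNβ _ (hψN hWc x hx e he)
    have hβc := K.sq_central T
    have hψβ : ∀ x : S, psi x β = 1 := fun x => (hE.psi_eq_one_iff hcsq).2 (mem_center_iff.1 hβc x)
    have hsq : ∀ x ∈ H, x * x ∈ C := fun x hx => hE.sq_mem_centralizer fun e he => by
      rcases hval x hx e he with h1 | h1 <;> rw [h1]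
      · simp
      · exact mem_center_iff.1 hβc x
    have hρH : 4 ≤ Nat.card (H.map ρ) := by
      obtain ⟨k, hk⟩ := IsPGroup.iff_card.1 ((h.pgroup.to_quotient C).to_subgroup (H.map ρ))
      have h0 : 0 < Nat.card (M.map ρ) := Nat.card_pos
      rcases k with _ | _ | k
      · omega
      · omega
      · rw [hk]
        calc 4 = 2 ^ 2 := rfl
          _ ≤ 2 ^ (k + 1 + 1) := Nat.pow_le_pow_right (by norm_num) (by omega)
    -- every pattern of commutators is realised in `H`
    have hreal : ∀ e₁ e₂ : S, e₁ ∈ E → e₂ ∈ E → e₁ ≠ 1 → e₁ ≠ β → e₂ ≠ 1 → e₂ ≠ β → e₂ ≠ e₁ →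
        e₂ ≠ β * e₁ → ∀ v₁ v₂ : S, (v₁ = 1 ∨ v₁ = β) → (v₂ = 1 ∨ v₂ = β) →
        ∃ x ∈ H, psi x e₁ = v₁ ∧ psi x e₂ = v₂ := by
      intro e₁ e₂ he₁ he₂ n1 n2 n3 n4 n5 n6 v₁ v₂ hv₁ hv₂
      choose pre hpre hpreρ using fun g : H.map ρ => g.2
      let Φ : H.map ρ → Bool × Bool := fun g =>
        (decide (psi (pre g) e₁ = 1), decide (psi (pre g) e₂ = 1))
      have hdec : ∀ {u v : S}, (u = 1 ∨ u = β) → (v = 1 ∨ v = β) →
          decide (u = 1) = decide (v = 1) → u = v := by
        intro u v hu hv huv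
        simp only [decide_eq_decide] at huv
        rcases hu with hu | hu <;> rcases hv with hv | hv
        · rw [hu, hv]
        · rw [hu, huv.1 hu]
        · rw [huv.2 hv, hv]
        · rw [hu, hv]
      have hinj : Function.Injective Φ := by
        intro g g' hgg
        obtain ⟨h1, h2⟩ := Prod.ext_iff.1 hgg
        apply Subtype.ext
        rw [← hpreρ g, ← hpreρ g']
        refine QuotientGroup.eq.2 (eq_mod_of_five hE h8 hcsq hβ1 he₁ he₂ n1 n2 n3 n4 n5 n6 ?_ ?_ ?_)
        · rw [hψβ, hψβ]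
        · exact hdec (hval _ (hpre g) _ he₁) (hval _ (hpre g') _ he₁) h1
        · exact hdec (hval _ (hpre g) _ he₂) (hval _ (hpre g') _ he₂) h2
      have hcard4 : Nat.card (H.map ρ) = Nat.card (Bool × Bool) := by
        have h1 := Nat.card_le_card_of_injective Φ hinj
        rw [Nat.card_prod, Nat.card_eq_fintype_card (α := Bool), Fintype.card_bool] at h1 ⊢
        omega
      obtain ⟨g, hg⟩ := ((Nat.bijective_iff_injective_and_card Φ).2 ⟨hinj, hcard4⟩).2
        (decide (v₁ = 1), decide (v₂ = 1))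
      obtain ⟨g1, g2⟩ := Prod.ext_iff.1 hg
      exact ⟨pre g, hpre g, hdec (hval _ (hpre g) _ he₁) hv₁ g1, hdec (hval _ (hpre g) _ he₂) hv₂ g2⟩
    obtain ⟨y, hy, hyc⟩ := hcH
    have hye : c⁻¹ * y ∈ E := QuotientGroup.eq.1 hyc.symm
    have hβK : β ∈ fixE E a := mem_fixE.2
      ⟨hcsq, (h.comm β (K.sq_mem_inter T).2 a ha)⟩
    by_cases hβR : β ∈ imgE hE ha2
    · -- `a` itself is realised in `H`
      have hva : ∀ e ∈ E, psi a e = 1 ∨ psi a e = β := fun e he => by
        have h1 : psi a e ∈ imgE hE ha2 := (mem_imgE hE ha2).2 ⟨e, he, hE.delta_eq_psi ha2 he⟩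
        exact K.img_eq ha haE hβR hβ1 h1
      obtain ⟨e₁, he₁, n1, n2⟩ : ∃ e₁ ∈ E, e₁ ≠ 1 ∧ e₁ ≠ β := by
        by_contra hcon
        push Not at hcon
        have := natCard_le_two (fun x : E => (x : S)) Subtype.val_injective (u := 1) (v := β)
          fun x => by
            by_cases hx : (x : S) = 1
            · exact Or.inl hx
            · exact Or.inr (hcon _ x.2 hx)
        omega
      obtain ⟨e₂, he₂, n3, n4, n5, n6⟩ : ∃ e₂ ∈ E, e₂ ≠ 1 ∧ e₂ ≠ β ∧ e₂ ≠ e₁ ∧ e₂ ≠ β * e₁ := by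
        by_contra hcon
        push Not at hcon
        have := Nat.card_le_card_of_surjective (![⟨1, one_mem _⟩, ⟨β, hcsq⟩, ⟨e₁, he₁⟩,
          ⟨β * e₁, mul_mem hcsq he₁⟩] : Fin 4 → E) (by
            rintro ⟨b, hb⟩
            by_cases q1 : b = 1
            · exact ⟨0, by simp [q1]⟩
            by_cases q2 : b = β
            · exact ⟨1, by simp [q2]⟩
            by_cases q3 : b = e₁
            · exact ⟨2, by simp [q3]⟩
            exact ⟨3, by simp [hcon b hb q1 q2 q3]⟩)
        rw [h8, Nat.card_fin] at this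
        omega
      obtain ⟨x, hx, hx1, hx2⟩ :=
        hreal e₁ e₂ he₁ he₂ n1 n2 n3 n4 n5 n6 _ _ (hva e₁ he₁) (hva e₂ he₂)
      have hk : a⁻¹ * x ∈ C := eq_mod_of_five hE h8 hcsq hβ1 he₁ he₂ n1 n2 n3 n4 n5 n6
        (by rw [hψβ, hψβ]) hx1.symm hx2.symm
      -- `C` is commutative
      have hcommC : ∀ u ∈ C, ∀ v ∈ C, u * v = v * u := by
        obtain ⟨⟨q, hq⟩, hgen⟩ := hcyc.exists_generator
        obtain ⟨k₀, hk₀, hk₀q⟩ := hq
        have key : ∀ u ∈ C, ∃ i : ℤ, (k₀ ^ i)⁻¹ * u ∈ E := fun u hu => by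
          obtain ⟨i, hi⟩ := mem_zpowers_iff.1 (hgen ⟨π u, mem_map_of_mem π hu⟩)
          refine ⟨i, QuotientGroup.eq.1 ?_⟩
          show π (k₀ ^ i) = π u
          rw [map_zpow, hk₀q]
          simpa using congrArg Subtype.val hi
        intro u hu v hv
        obtain ⟨i, hi⟩ := key u hu
        obtain ⟨j, hj⟩ := key v hv
        have hkE : ∀ e ∈ E, ∀ n : ℤ, Commute (k₀ ^ n) e := fun e he n =>
          ((show Commute k₀ e from (mem_centralizer_iff.1 hk₀ e he).symm).zpow_left n)
        set e := (k₀ ^ i)⁻¹ * u with hedef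
        set f := (k₀ ^ j)⁻¹ * v with hfdef
        rw [show u = k₀ ^ i * e by rw [hedef]; group, show v = k₀ ^ j * f by rw [hfdef]; group]
        exact (Commute.mul_left (Commute.mul_right (Commute.zpow_zpow_self k₀ i j) (hkE f hj i))
          (Commute.mul_right (hkE e hi j).symm (hE.comm e hi f hj))).eq
      have haya : a⁻¹ * y * a ∈ C := by simpa using hCn.conj_mem y hy.2 a⁻¹
      have hM : y⁻¹ * x⁻¹ * y * x ∈ M := hHM.conj_mul_mem hy.1 hx
      have h1 : y⁻¹ * x⁻¹ * y * x = y⁻¹ * (a⁻¹ * y * a) := by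
        calc y⁻¹ * x⁻¹ * y * x = y⁻¹ * ((a⁻¹ * x)⁻¹ * ((a⁻¹ * y * a) * (a⁻¹ * x))) := by group
          _ = y⁻¹ * (a⁻¹ * y * a) := by rw [hcommC _ haya _ hk, inv_mul_cancel_left]
      have hδy : delta a y = delta a c * delta a (c⁻¹ * y) := by
        have := hE.delta_mul ha2 (K.delta_c_mem T ha) hye
        rwa [mul_inv_cancel_left] at this
      have hδyE : delta a y ∈ E := hδy ▸ mul_mem (K.delta_c_mem T ha) (hE.delta_self_mem ha2 hye)
      have h2 : y⁻¹ * (a⁻¹ * y * a) = delta a y := by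
        have h3 : y⁻¹ * (a⁻¹ * y * a) = a * delta a y * a := by
          unfold delta
          rw [inv_eq_self ha2]
          calc y⁻¹ * (a * y * a) = (a * a) * (y⁻¹ * (a * y * a)) := by rw [ha2, one_mul]
            _ = a * (a * y⁻¹ * a * y) * a := by group
        rw [h3, hE.delta_commute ha2 hδyE, mul_assoc, ha2, mul_one]
      rw [h1, h2] at hM
      have hR : delta a y ∈ imgE hE ha2 := by
        rcases hNβ _ ⟨hM, hδyE⟩ with h3 | h3 <;> rw [h3]
        · exact one_mem _
        · exact hβR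
      rw [hδy] at hR
      have h4 : delta a (c⁻¹ * y) ∈ imgE hE ha2 := (mem_imgE hE ha2).2 ⟨_, hye, rfl⟩
      exact K.delta_c_notMem T ha haE ((mul_mem_cancel_right h4).1 hR)
    · -- `β` is not a commutator of `a`
      have hI4 : Nat.card ↥(E ⊓ A) = 4 := by
        rcases h.card_inter_cases (E := E) with hc | hc | hc | hc
        · have : E ⊓ A = ⊥ := eq_bot_of_card_eq _ hc
          exact absurd (Subgroup.mem_bot.1 (this ▸ hz)) hz1
        · exact absurd (K.sq_mem_img T hc ha haE) hβR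
        · exact hc
        · omega
      obtain ⟨ζ, hζ, hζ1⟩ := (imgE hE ha2).bot_or_exists_ne_one.resolve_left fun h0 => by
        have := K.card_imgE ha haE
        rw [h0, Subgroup.card_bot] at this
        omega
      obtain ⟨e₀, he₀, he₀ζ⟩ := (mem_imgE hE ha2).1 hζ
      obtain ⟨hζE, hζa⟩ := mem_fixE.1 (imgE_le_fixE hE ha2 hζ)
      have hfix : fixE E a = E ⊓ A := (eq_of_le_of_card_ge
        (fun v (hv : v ∈ E ⊓ A) => mem_fixE.2 ⟨hv.1, h.comm v hv.2 a ha⟩)
        (by rw [K.card_fixE ha haE, hI4])).symm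
      have hK4 : ∀ v ∈ fixE E a, v = 1 ∨ v = ζ ∨ v = β ∨ v = β * ζ := by
        intro v hv
        have hR2 : ∀ r ∈ imgE hE ha2, r = 1 ∨ r = ζ := fun r hr => K.img_eq ha haE hζ hζ1 hr
        rcases K.fix_cases T ha haE hv with h1 | h1
        · rcases hR2 v h1 with h2 | h2
          · exact Or.inl h2
          · exact Or.inr (Or.inl h2)
        · have h2 := (K.fix_cases T ha haE hβK).resolve_left hβR
          have h3 : β * v = (delta a c * β) * (delta a c * v) := by
            rw [hE.comm _ (K.delta_c_mem T ha) β hcsq, mul_assoc β,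
              mul_self_cancel (hE.sq _ (K.delta_c_mem T ha))]
          rcases hR2 _ (h3 ▸ mul_mem h2 h1 : β * v ∈ imgE hE ha2) with h4 | h4
          · refine Or.inr (Or.inr (Or.inl ?_))
            rw [← mul_self_cancel (hE.sq β hcsq) v, h4, mul_one]
          · refine Or.inr (Or.inr (Or.inr ?_))
            rw [← mul_self_cancel (hE.sq β hcsq) v, h4]
      have he₀a : e₀ ∉ fixE E a := fun hh => hζ1 (by
        rw [← he₀ζ]; exact (delta_eq_one_iff ha2).2 (mem_fixE.1 hh).2.symm)
      have hζβ : ζ ≠ β := fun hh => hβR (hh ▸ hζ)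
      have hζK : ζ ∈ fixE E a := imgE_le_fixE hE ha2 hζ
      have m3 : e₀ ≠ 1 := fun hh => he₀a (hh ▸ one_mem _)
      have m4 : e₀ ≠ β := fun hh => he₀a (hh ▸ hβK)
      have m5 : e₀ ≠ ζ := fun hh => he₀a (hh ▸ hζK)
      have m6 : e₀ ≠ β * ζ := fun hh => he₀a (hh ▸ mul_mem hβK hζK)
      obtain ⟨x, hx, hx1, hx2⟩ := hreal ζ e₀ hζE he₀ hζ1 hζβ m3 m4 m5 m6 1 β (Or.inl rfl) (Or.inr rfl)
      obtain ⟨x', hx', hx1', hx2'⟩ :=
        hreal ζ e₀ hζE he₀ hζ1 hζβ m3 m4 m5 m6 β 1 (Or.inr rfl) (Or.inl rfl)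
      have hxR : x ∈ R₀ := mem_centralizer_iff.2 fun v hv => by
        have hxζ : Commute x ζ := (hE.psi_eq_one_iff hζE).1 hx1
        have hxβ : Commute x β := mem_center_iff.1 hβc x
        rcases hK4 v (hfix ▸ hv) with rfl | rfl | rfl | rfl
        · simp
        · exact hxζ.eq.symm
        · exact hxβ.eq.symm
        · exact (hxβ.mul_right hxζ).eq.symm
      -- the conjugate of `a`
      have cζa : a⁻¹ * ζ * a = ζ := by rw [mul_assoc, hζa, inv_mul_cancel_left]
      have ce₀a : a⁻¹ * e₀ * a = e₀ * ζ := by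
        have h1 := hE.delta_eq_psi ha2 he₀
        rw [he₀ζ] at h1
        rw [h1]; unfold psi; rw [mul_self_cancel (hE.sq e₀ he₀)]
      have conj_of : ∀ {s e v : S}, e ∈ E → psi s e = v → s⁻¹ * e * s = e * v := by
        intro s e v he hev
        rw [← hev]; unfold psi; rw [mul_self_cancel (hE.sq e he)]
      have cζx : x⁻¹ * ζ * x = ζ := by rw [conj_of hζE hx1, mul_one]
      have ce₀x : x⁻¹ * e₀ * x = e₀ * β := conj_of he₀ hx2
      have cζx' : x'⁻¹ * ζ * x' = ζ * β := conj_of hζE hx1'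
      have ce₀x' : x'⁻¹ * e₀ * x' = e₀ := by rw [conj_of he₀ hx2', mul_one]
      have cβ : ∀ s : S, s⁻¹ * β * s = β := fun s => by
        rw [mul_assoc, ← mem_center_iff.1 hβc s, inv_mul_cancel_left]
      have icζ : x' * ζ * x'⁻¹ = ζ * β := by
        have h1 : x'⁻¹ * (ζ * β) * x' = ζ := by
          rw [show x'⁻¹ * (ζ * β) * x' = (x'⁻¹ * ζ * x') * (x'⁻¹ * β * x') by group, cζx', cβ,
            mul_assoc, hE.sq β hcsq, mul_one]
        calc x' * ζ * x'⁻¹ = x' * (x'⁻¹ * (ζ * β) * x') * x'⁻¹ := by rw [h1]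
          _ = ζ * β := by group
      have ice₀ : x' * e₀ * x'⁻¹ = e₀ := by
        calc x' * e₀ * x'⁻¹ = x' * (x'⁻¹ * e₀ * x') * x'⁻¹ := by rw [ce₀x']
          _ = e₀ := by group
      set a' := x'⁻¹ * a * x' with ha'
      have hk₀ : (a * x)⁻¹ * a' ∈ C := by
        refine eq_mod_of_five hE h8 hcsq hβ1 hζE he₀ hζ1 hζβ m3 m4 m5 m6 ?_ ?_ ?_
        · rw [hψβ, hψβ]
        · unfold psi
          congr 1
          calc (a * x)⁻¹ * ζ * (a * x) = x⁻¹ * (a⁻¹ * ζ * a) * x := by group
            _ = ζ := by rw [cζa, cζx]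
            _ = x'⁻¹ * ((a⁻¹ * ζ * a) * (a⁻¹ * β * a)) * x' := by
              rw [cζa, cβ]
              rw [show x'⁻¹ * (ζ * β) * x' = (x'⁻¹ * ζ * x') * (x'⁻¹ * β * x') by group, cζx', cβ,
                mul_assoc, hE.sq β hcsq, mul_one]
            _ = x'⁻¹ * (a⁻¹ * (ζ * β) * a) * x' := by group
            _ = x'⁻¹ * (a⁻¹ * (x' * ζ * x'⁻¹) * a) * x' := by rw [icζ]
            _ = a'⁻¹ * ζ * a' := by rw [ha']; group
        · unfold psi
          congr 1
          calc (a * x)⁻¹ * e₀ * (a * x) = x⁻¹ * (a⁻¹ * e₀ * a) * x := by group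
            _ = (x⁻¹ * e₀ * x) * (x⁻¹ * ζ * x) := by rw [ce₀a]; group
            _ = e₀ * (ζ * β) := by
              rw [ce₀x, cζx, mul_assoc, hE.comm β hcsq ζ hζE]
            _ = (x'⁻¹ * e₀ * x') * (x'⁻¹ * ζ * x') := by rw [ce₀x', cζx']
            _ = x'⁻¹ * (a⁻¹ * (x' * e₀ * x'⁻¹) * a) * x' := by rw [ice₀, ce₀a]; group
            _ = a'⁻¹ * e₀ * a' := by rw [ha']; group
      have hψa : ∀ {k : S}, k ∈ C → ∀ e ∈ E, psi k e = 1 := fun hk e he =>
        (hE.psi_eq_one_iff he).2 (mem_centralizer_iff.1 hk e he).symm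
      have hxC : x ∉ C := fun hh => hβ1 (hx2 ▸ hψa hh e₀ he₀)
      have haxC : a⁻¹ * x ∉ C := fun hh => by
        have h1 := hE.psi_mul_centralizer a hh he₀
        rw [mul_inv_cancel_left, hx2, ← hE.delta_eq_psi ha2 he₀, he₀ζ] at h1
        exact hζβ h1.symm
      have hR8 : 8 ≤ Nat.card Rb := by
        have h1 := card_map_mul π R₀
        have h2 := card_map_mul ρ R₀
        rw [QuotientGroup.ker_mk'] at h1 h2
        rw [inf_eq_right.2 (hEC.trans hCR)] at h1
        rw [inf_eq_right.2 hCR] at h2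
        have h3 : 3 ≤ Nat.card (R₀.map ρ) := by
          have := Nat.card_le_card_of_injective (![⟨1, one_mem _⟩, ⟨ρ a, mem_map_of_mem ρ haR⟩,
            ⟨ρ x, mem_map_of_mem ρ hxR⟩] : Fin 3 → R₀.map ρ) (by
              intro i j hij
              have h' := congrArg Subtype.val hij
              fin_cases i <;> fin_cases j <;> simp at h' ⊢ <;>
                first
                  | exact absurd (hρ1.1 h') haC
                  | exact absurd (hρ1.1 h'.symm) haC
                  | exact absurd (hρ1.1 h') hxC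
                  | exact absurd (hρ1.1 h'.symm) hxC
                  | exact absurd (QuotientGroup.eq.1 h') haxC
                  | exact absurd (QuotientGroup.eq.1 h'.symm) haxC)
          rwa [Nat.card_fin] at this
        have h4 : 16 ≤ Nat.card C := by
          have h5 := card_map_mul π C
          rw [QuotientGroup.ker_mk', inf_eq_right.2 hEC, h8] at h5
          have h6 : 2 ≤ Nat.card Cb := by
            by_contra h7
            push Not at h7
            have h8' : Cb = ⊥ := eq_bot_of_card_eq _ (by have := Nat.card_pos (α := Cb); omega)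
            exact hcπ1 (Subgroup.mem_bot.1 (h8' ▸ mem_map_of_mem π hcC))
          have h6' : 2 ≤ Nat.card (C.map π) := h6
          omega
        obtain ⟨k, hk⟩ := IsPGroup.iff_card.1 ((h.pgroup.to_quotient C).to_subgroup (R₀.map ρ))
        have h3' : 4 ≤ Nat.card (R₀.map ρ) := by
          rcases k with _ | _ | k
          · omega
          · omega
          · rw [hk]
            calc 4 = 2 ^ 2 := rfl
              _ ≤ 2 ^ (k + 1 + 1) := Nat.pow_le_pow_right (by norm_num) (by omega)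
        have : 64 ≤ Nat.card R₀ := h2 ▸ Nat.mul_le_mul h3' h4
        rw [h1, h8] at this
        show 8 ≤ Nat.card (R₀.map π)
        omega
      obtain ⟨Q, hQc, hQR, haQ, hmul, -⟩ :=
        (small_centralizer hQ (mem_map_of_mem π haR) hπa1 hπa2 (hR4 hI4)).2 hR8
      by_cases hCQ : Cb ≤ Q
      swap
      · rcases hclasses hQc hQR hmul hI4 hCQ x hxR with h1 | h1
        · exact hxC h1
        · exact haxC h1
      obtain ⟨⟨q, hq⟩, hgen⟩ := hQc.exists_generator
      have hzq : ∀ v ∈ Q, v ∈ zpowers q := fun v hv => by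
        obtain ⟨i, hi⟩ := mem_zpowers_iff.1 (hgen ⟨v, hv⟩)
        exact ⟨i, by simpa using congrArg Subtype.val hi⟩
      have hxb : π x ∉ Cb := fun hh => hxC (hmemC hh)
      have haxb : π (a⁻¹ * x) ∉ Cb := fun hh => haxC (hmemC hh)
      have hqC : q ∉ Cb := fun hh => by
        have hQle : ∀ v ∈ Q, v ∈ Cb := fun v hv => zpowers_le.2 hh (hzq v hv)
        refine haxb (hQle _ ?_)
        rw [map_mul, map_inv, inv_eq_self hπa2]
        exact hmul _ (mem_map_of_mem π haR) _ (mem_map_of_mem π hxR) haQ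
          (fun h1 => hxb (hQle _ h1))
      have hCq : ∀ v ∈ Cb, v ∈ zpowers (q * q) := fun v hv => by
        by_contra h1
        exact hqC (zpowers_le.2 hv (mem_zpowers_of_two_pow hQ (hzq v (hCQ hv)) h1))
      have hgenC : ∀ v ∈ Q, v ∉ Cb → (q * q) ∈ Cb → ∀ w ∈ Cb, w ∈ zpowers (v * v) := by
        intro v hv hvC hqq w hw
        have h1 : v ∉ zpowers (q * q) := fun hh => hvC (zpowers_le.2 hqq hh)
        obtain ⟨i, hi⟩ := mem_zpowers_iff.1 (mem_zpowers_of_two_pow hQ (hzq v hv) h1)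
        obtain ⟨j, hj⟩ := mem_zpowers_iff.1 (hCq w hw)
        refine ⟨i * j, ?_⟩
        show (v * v) ^ (i * j) = w
        rw [← hj, ← hi, ← (Commute.refl v).mul_zpow i, ← zpow_mul]
      have hqq : q * q ∈ Cb := by
        obtain ⟨r, hr, hrq⟩ := hQR hq
        refine ⟨r * r, hE.sq_mem_centralizer fun e he => ?_, by rw [map_mul, hrq]⟩
        have hidx : ((E ⊓ A).subgroupOf E).index = 2 := by
          have h1 := Subgroup.card_mul_index ((E ⊓ A).subgroupOf E)
          rw [Nat.card_congr (subgroupOfEquivOfLe inf_le_left).toEquiv, hI4, h8] at h1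
          omega
        exact (mem_centralizer_iff.1 hr _ (hE.psi_mem_of_fix inf_le_left hidx
          (fun v hv => (mem_centralizer_iff.1 hr v hv).symm) he)).symm
      by_cases hxQ : π x ∈ Q
      · refine hb1 ?_
        rw [one_mul]
        refine Nat.le_of_dvd Nat.card_pos (card_dvd_of_le ?_)
        have hxx : π x * π x ∈ (M ⊓ C).map π := ⟨x * x, ⟨hHM.2 x hx, hsq x hx⟩, map_mul π x x⟩
        exact fun v hv => zpowers_le.2 hxx (hgenC _ hxQ hxb hqq v (hHCle hv))
      · have haxQ : π a * π x ∈ Q :=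
          hmul _ (mem_map_of_mem π haR) _ (mem_map_of_mem π hxR) haQ hxQ
        have ha'Q : π a' ∈ Q := by
          have h1 : π a' = π a * π x * π ((a * x)⁻¹ * a') := by rw [← map_mul, ← map_mul]; congr 1; group
          rw [h1]
          exact mul_mem haxQ (hCQ (mem_map_of_mem π hk₀))
        have ha'C : π a' ∉ Cb := fun hh => by
          have h1 := hmemC hh
          have h2 : a ∈ C := by
            have := hCn.conj_mem _ h1 x'
            rw [ha'] at this
            simpa [mul_assoc] using this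
          exact haC h2
        have h2 : π a' * π a' = 1 := by
          rw [← map_mul, ha', show x'⁻¹ * a * x' * (x'⁻¹ * a * x') = x'⁻¹ * (a * a) * x' by group,
            ha2]
          simp
        have h3 := hgenC _ ha'Q ha'C hqq _ (mem_map_of_mem π hcC)
        rw [h2, Subgroup.zpowers_one_eq_bot, Subgroup.mem_bot] at h3
        exact hcπ1 h3
  · -- the centralizer is not cyclic over `E`
    have hsmall : ¬ ∀ x ∈ C, x ∈ E ∨ c * x ∈ E := fun hs => hcyc (by
      have hle : Cb ≤ zpowers (π c) := by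
        rintro _ ⟨x, hx, rfl⟩
        rcases hs x hx with h1 | h1
        · rw [hπ1.2 h1]; exact one_mem _
        · have h2 : π c = π x := QuotientGroup.eq.2 (hcinv h1)
          rw [← h2]; exact mem_zpowers _
      exact isCyclic_of_injective (Subgroup.inclusion hle) (inclusion_injective hle))
    obtain ⟨hI4, htw⟩ := (K.dichotomy T ha haE).resolve_left hsmall
    have hR8 : 8 ≤ Nat.card Rb := by
      have hlt : Cb < Rb := lt_of_le_of_ne (map_mono hCR) fun he =>
        haC (hmemC (he ▸ mem_map_of_mem π haR))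
      obtain ⟨k, hk⟩ := IsPGroup.iff_card.1 (hQ.to_subgroup Cb)
      obtain ⟨j, hj⟩ := IsPGroup.iff_card.1 (hQ.to_subgroup Rb)
      have hlt' : 2 ^ k < 2 ^ j := by
        rw [← hk, ← hj]
        refine lt_of_le_of_ne (Nat.le_of_dvd Nat.card_pos (card_dvd_of_le hlt.le)) fun he => ?_
        exact hlt.ne (eq_of_le_of_card_ge hlt.le he.ge)
      have hk2 : 2 ≤ k := by
        by_contra hk2
        push Not at hk2
        refine hcyc ?_
        interval_cases k
        · exact isCyclic_of_card_le_two hk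
        · exact isCyclic_of_card_le_two' hk
      have hjk : k < j := (Nat.pow_lt_pow_iff_right (a := 2) (by norm_num)).1 hlt'
      rw [hj]
      calc 8 = 2 ^ 3 := rfl
        _ ≤ 2 ^ j := Nat.pow_le_pow_right (by norm_num) (by omega)
    obtain ⟨hrank, hQex⟩ := small_centralizer hQ (mem_map_of_mem π haR) hπa1 hπa2 (hR4 hI4)
    obtain ⟨Q, hQc, hQR, -, hmul, hQcen⟩ := hQex hR8
    have hCQ : ¬ Cb ≤ Q := fun hle => hcyc
      (isCyclic_of_injective (Subgroup.inclusion hle) (inclusion_injective hle))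
    have hcl := hclasses hQc hQR hmul hI4 hCQ
    set β := c * c with hβdef
    have hβR : β ∉ imgE hE ha2 := fun hh => K.delta_c_notMem T ha haE
      ((mul_mem_cancel_left hh).1 htw)
    obtain ⟨ζ, hζ, hζ1⟩ := (imgE hE ha2).bot_or_exists_ne_one.resolve_left fun h0 => by
      have := K.card_imgE ha haE
      rw [h0, Subgroup.card_bot] at this
      omega
    -- `S = C ∪ aC`
    have htop : R₀ = ⊤ := by
      by_contra hne0
      have hnil : Group.IsNilpotent S := h.pgroup.isNilpotent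
      obtain ⟨s, hs, hsR⟩ := SetLike.exists_of_lt
        (Group.normalizerCondition_of_isNilpotent R₀ (lt_top_iff_ne_top.2 hne0))
      have has : s⁻¹ * a * s ∈ R₀ := by
        have h1 := (Subgroup.mem_normalizer_iff.1 (inv_mem hs) a).1 haR
        simpa using h1
      have hka : a⁻¹ * (s⁻¹ * a * s) ∈ C := (hcl _ has).resolve_left fun h1 => haC (by
        simpa [mul_assoc] using hCn.conj_mem _ h1 s)
      set a' := s⁻¹ * a * s with ha'
      have hβc := K.sq_central T
      have hsfix : ∀ v ∈ fixE E a, s⁻¹ * v * s ∈ fixE E a := fun v hv => by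
        obtain ⟨hvE, hva⟩ := mem_fixE.1 hv
        refine mem_fixE.2 ⟨hE.conj s hvE, ?_⟩
        have h1 : Commute (s⁻¹ * v * s) a' := by
          show s⁻¹ * v * s * a' = a' * (s⁻¹ * v * s)
          rw [ha', show s⁻¹ * v * s * (s⁻¹ * a * s) = s⁻¹ * (v * a) * s by group, hva]
          group
        have h2 : Commute (s⁻¹ * v * s) (a⁻¹ * a') :=
          mem_centralizer_iff.1 hka _ (hE.conj s hvE)
        have h3 := h1.mul_right h2.inv_right
        rw [show a' * (a⁻¹ * a')⁻¹ = a by group] at h3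
        exact h3
      have hsζ : s⁻¹ * ζ * s = ζ := by
        obtain ⟨e, he, heζ⟩ := (mem_imgE hE ha2).1 hζ
        have hse := hE.conj s he
        have h1 : s⁻¹ * ζ * s ∈ imgE hE ha2 := by
          refine (mem_imgE hE ha2).2 ⟨_, hse, ?_⟩
          rw [hE.delta_eq_psi ha2 hse, ← heζ, hE.delta_eq_psi ha2 he]
          have h2 := hE.psi_mul_centralizer a hka hse
          rw [mul_inv_cancel_left] at h2
          rw [← h2]
          unfold psi
          rw [ha']; group
        refine (K.img_eq ha haE hζ hζ1 h1).resolve_left fun h2 => hζ1 ?_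
        calc ζ = s * (s⁻¹ * ζ * s) * s⁻¹ := by group
          _ = 1 := by rw [h2]; group
      refine hsR (mem_centralizer_iff.2 fun v (hv : v ∈ E ⊓ A) => ?_)
      have hvK : v ∈ fixE E a := mem_fixE.2 ⟨hv.1, h.comm v hv.2 a ha⟩
      have hsv : Commute s ζ := by
        show s * ζ = ζ * s
        calc s * ζ = s * (s⁻¹ * ζ * s) := by rw [hsζ]
          _ = ζ * s := by group
      have hsβ : Commute s β := mem_center_iff.1 hβc s
      have hR2 : ∀ r ∈ imgE hE ha2, r = 1 ∨ r = ζ := fun r hr => K.img_eq ha haE hζ hζ1 hr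
      have hsR' : ∀ r ∈ imgE hE ha2, Commute s r := fun r hr => by
        rcases hR2 r hr with h1 | h1 <;> rw [h1]
        exacts [Commute.one_right s, hsv]
      rcases K.fix_cases T ha haE hvK with h1 | h1
      · exact (hsR' v h1).eq.symm
      · have h3 : (c * c * delta a c) * (delta a c * v) = β * v := by
          rw [mul_assoc β, mul_self_cancel (hE.sq _ (K.delta_c_mem T ha))]
        have h4 := hsR' _ (h3 ▸ mul_mem htw h1 : β * v ∈ imgE hE ha2)
        have h5 := hsβ.mul_right h4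
        rw [mul_self_cancel (hE.sq β hcsq)] at h5
        exact h5.eq.symm
    have haa2 : Nat.card (H.map ρ) ≤ 2 * Nat.card (M.map ρ) := by
      have hle : Nat.card (H.map ρ) ≤ 2 := by
        refine natCard_le_two (fun g : H.map ρ => (g : S ⧸ C)) Subtype.val_injective
          (u := 1) (v := ρ a) fun g => ?_
        obtain ⟨x, hx, hxg⟩ := g.2
        rw [← hxg]
        rcases hcl x (htop ▸ mem_top x) with h1 | h1
        · exact Or.inl (hρ1.2 h1)
        · exact Or.inr (QuotientGroup.eq.2 h1).symm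
      have h0 : 0 < Nat.card (M.map ρ) := Nat.card_pos
      omega
    have hb4 : Nat.card ((H ⊓ C).map π) ≤ 4 * Nat.card ((M ⊓ C).map π) :=
      hrank _ _ (hHCle.trans (map_mono hCR)) ((hHM.inf C).map π)
    by_cases hb2 : Nat.card ((H ⊓ C).map π) ≤ 2 * Nat.card ((M ⊓ C).map π)
    · by_cases hHC : H ≤ C
      · exact combine (ha1 hHC) hb2 hw8 (by norm_num)
      · exact combine haa2 hb2 (hw4 hHC) (by norm_num)
    have hcH : π c ∈ (H ⊓ C).map π := by
      set L := (H ⊓ C).map π
      have hLR : L ≤ Rb := hHCle.trans (map_mono hCR)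
      have hcQ : π c ∈ Q := hQcen _ (mem_map_of_mem π (hCR hcC)) hcπ (fun g _ => hcen g)
      by_contra hcL
      refine hb2 (le_trans ?_ (Nat.le_mul_of_pos_right 2 Nat.card_pos))
      have hLQ : ∀ g ∈ L, g ∈ Q → g = 1 := fun g hg hgQ => by
        by_contra hg1
        exact hcL (involution_mem hQ hQc hcQ hcπ1 hcπ hg hgQ hg1)
      by_cases hL1 : ∀ g ∈ L, g = 1
      · refine natCard_le_two (fun g : L => (g : S ⧸ E)) Subtype.val_injective (u := 1) (v := 1)
          fun g => Or.inl (hL1 g g.2)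
      · push Not at hL1
        obtain ⟨g₀, hg₀, hg₀1⟩ := hL1
        refine natCard_le_two (fun g : L => (g : S ⧸ E)) Subtype.val_injective (u := 1) (v := g₀)
          fun g => ?_
        by_cases hg1 : (g : S ⧸ E) = 1
        · exact Or.inl hg1
        · refine Or.inr (inv_mul_eq_one.1 (hLQ _ (mul_mem (inv_mem hg₀) g.2) ?_)).symm
          exact hmul _ (inv_mem (hLR hg₀)) _ (hLR g.2)
            (fun hh => hg₀1 (hLQ _ hg₀ (by simpa using inv_mem hh))) (fun hh => hg1 (hLQ _ g.2 hh))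
    have hβN := hcN hcH
    have h2N := hN2 hβN
    by_cases hHC : H ≤ C
    · exact combine (ha1 hHC) hb4 (show Nat.card W ≤ 4 * Nat.card N by omega) (by norm_num)
    suffices hw2 : Nat.card W ≤ 2 * Nat.card N from combine haa2 hb4 hw2 (by norm_num)
    rcases hW48 with hc | hc
    · omega
    by_contra hw2
    push Not at hw2
    obtain ⟨g, hg, hgC⟩ := SetLike.not_le_iff_exists.1 hHC
    have hga : a⁻¹ * g ∈ C := (hcl g (htop ▸ mem_top g)).resolve_left hgC
    obtain ⟨e, he, heζ⟩ := (mem_imgE hE ha2).1 hζ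
    have h3 : psi g e = ζ := by
      have h1 := hE.psi_mul_centralizer a hga he
      rw [mul_inv_cancel_left] at h1
      rw [h1, ← hE.delta_eq_psi ha2 he, heζ]
    obtain ⟨γ, -, hγ⟩ := exists_beta (N := N) (by omega) h.pgroup
    have hζN : ζ ∈ N := h3 ▸ hψN hc g hg e he
    exact hβR (((hγ β hβN).resolve_left (K.sq_ne_one T)).trans
      ((hγ ζ hζN).resolve_left hζ1).symm ▸ hζ)
where
  isCyclic_of_card_le_two {G : Type _} [Group G] {L : Subgroup G} (h : Nat.card L = 2 ^ 0) :
      IsCyclic L := by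
    have : Subsingleton L := (Nat.card_eq_one_iff_unique.1 (by simpa using h)).1
    infer_instance
  isCyclic_of_card_le_two' {G : Type _} [Group G] {L : Subgroup G} (h : Nat.card L = 2 ^ 1) :
      IsCyclic L := by
    have : Fact (Nat.Prime 2) := ⟨Nat.prime_two⟩
    exact isCyclic_of_prime_card (p := 2) (by simpa using h)

end Cfsg.Agent.Lib.HaradaEight
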